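import Cfsg.Agent.Lib.ToddCox.Suz1782.Data0
set_option autoImplicit false
set_option maxRecDepth 100000
namespace Cfsg.Agent.Lib.ToddCox.Suz1782
def eT_0_2 (j : ℕ) : ℕ := bif Nat.blt j 1 then E_0 else E_1
def eT_2_4 (j : ℕ) : ℕ := bif Nat.blt j 3 then E_2 else E_3
def eT_0_4 (j : ℕ) : ℕ := bif Nat.blt j 2 then (eT_0_2 j) else (eT_2_4 j)
def eT_4_6 (j : ℕ) : ℕ := bif Nat.blt j 5 then E_4 else E_5
def eT_6_8 (j : ℕ) : ℕ := bif Nat.blt j 7 then E_6 else E_7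
def eT_4_8 (j : ℕ) : ℕ := bif Nat.blt j 6 then (eT_4_6 j) else (eT_6_8 j)
def eT_0_8 (j : ℕ) : ℕ := bif Nat.blt j 4 then (eT_0_4 j) else (eT_4_8 j)
def eT_8_10 (j : ℕ) : ℕ := bif Nat.blt j 9 then E_8 else E_9
def eT_10_12 (j : ℕ) : ℕ := bif Nat.blt j 11 then E_10 else E_11
def eT_8_12 (j : ℕ) : ℕ := bif Nat.blt j 10 then (eT_8_10 j) else (eT_10_12 j)
def eT_12_14 (j : ℕ) : ℕ := bif Nat.blt j 13 then E_12 else E_13
def eT_15_17 (j : ℕ) : ℕ := bif Nat.blt j 16 then E_15 else E_16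
def eT_14_17 (j : ℕ) : ℕ := bif Nat.blt j 15 then E_14 else (eT_15_17 j)
def eT_12_17 (j : ℕ) : ℕ := bif Nat.blt j 14 then (eT_12_14 j) else (eT_14_17 j)
def eT_8_17 (j : ℕ) : ℕ := bif Nat.blt j 12 then (eT_8_12 j) else (eT_12_17 j)
def eT_0_17 (j : ℕ) : ℕ := bif Nat.blt j 8 then (eT_0_8 j) else (eT_8_17 j)
def eT_17_19 (j : ℕ) : ℕ := bif Nat.blt j 18 then E_17 else E_18
def eT_19_21 (j : ℕ) : ℕ := bif Nat.blt j 20 then E_19 else E_20
def eT_17_21 (j : ℕ) : ℕ := bif Nat.blt j 19 then (eT_17_19 j) else (eT_19_21 j)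
def eT_21_23 (j : ℕ) : ℕ := bif Nat.blt j 22 then E_21 else E_22
def eT_24_26 (j : ℕ) : ℕ := bif Nat.blt j 25 then E_24 else E_25
def eT_23_26 (j : ℕ) : ℕ := bif Nat.blt j 24 then E_23 else (eT_24_26 j)
def eT_21_26 (j : ℕ) : ℕ := bif Nat.blt j 23 then (eT_21_23 j) else (eT_23_26 j)
def eT_17_26 (j : ℕ) : ℕ := bif Nat.blt j 21 then (eT_17_21 j) else (eT_21_26 j)
def eT_26_28 (j : ℕ) : ℕ := bif Nat.blt j 27 then E_26 else E_27
def eT_28_30 (j : ℕ) : ℕ := bif Nat.blt j 29 then E_28 else E_29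
def eT_26_30 (j : ℕ) : ℕ := bif Nat.blt j 28 then (eT_26_28 j) else (eT_28_30 j)
def eT_30_32 (j : ℕ) : ℕ := bif Nat.blt j 31 then E_30 else E_31
def eT_33_35 (j : ℕ) : ℕ := bif Nat.blt j 34 then E_33 else E_34
def eT_32_35 (j : ℕ) : ℕ := bif Nat.blt j 33 then E_32 else (eT_33_35 j)
def eT_30_35 (j : ℕ) : ℕ := bif Nat.blt j 32 then (eT_30_32 j) else (eT_32_35 j)
def eT_26_35 (j : ℕ) : ℕ := bif Nat.blt j 30 then (eT_26_30 j) else (eT_30_35 j)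
def eT_17_35 (j : ℕ) : ℕ := bif Nat.blt j 26 then (eT_17_26 j) else (eT_26_35 j)
def eT_0_35 (j : ℕ) : ℕ := bif Nat.blt j 17 then (eT_0_17 j) else (eT_17_35 j)
def eT_35_37 (j : ℕ) : ℕ := bif Nat.blt j 36 then E_35 else E_36
def eT_37_39 (j : ℕ) : ℕ := bif Nat.blt j 38 then E_37 else E_38
def eT_35_39 (j : ℕ) : ℕ := bif Nat.blt j 37 then (eT_35_37 j) else (eT_37_39 j)
def eT_39_41 (j : ℕ) : ℕ := bif Nat.blt j 40 then E_39 else E_40
def eT_41_43 (j : ℕ) : ℕ := bif Nat.blt j 42 then E_41 else E_42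
def eT_39_43 (j : ℕ) : ℕ := bif Nat.blt j 41 then (eT_39_41 j) else (eT_41_43 j)
def eT_35_43 (j : ℕ) : ℕ := bif Nat.blt j 39 then (eT_35_39 j) else (eT_39_43 j)
def eT_43_45 (j : ℕ) : ℕ := bif Nat.blt j 44 then E_43 else E_44
def eT_45_47 (j : ℕ) : ℕ := bif Nat.blt j 46 then E_45 else E_46
def eT_43_47 (j : ℕ) : ℕ := bif Nat.blt j 45 then (eT_43_45 j) else (eT_45_47 j)
def eT_47_49 (j : ℕ) : ℕ := bif Nat.blt j 48 then E_47 else E_48
def eT_50_52 (j : ℕ) : ℕ := bif Nat.blt j 51 then E_50 else E_51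
def eT_49_52 (j : ℕ) : ℕ := bif Nat.blt j 50 then E_49 else (eT_50_52 j)
def eT_47_52 (j : ℕ) : ℕ := bif Nat.blt j 49 then (eT_47_49 j) else (eT_49_52 j)
def eT_43_52 (j : ℕ) : ℕ := bif Nat.blt j 47 then (eT_43_47 j) else (eT_47_52 j)
def eT_35_52 (j : ℕ) : ℕ := bif Nat.blt j 43 then (eT_35_43 j) else (eT_43_52 j)
def eT_52_54 (j : ℕ) : ℕ := bif Nat.blt j 53 then E_52 else E_53
def eT_54_56 (j : ℕ) : ℕ := bif Nat.blt j 55 then E_54 else E_55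
def eT_52_56 (j : ℕ) : ℕ := bif Nat.blt j 54 then (eT_52_54 j) else (eT_54_56 j)
def eT_56_58 (j : ℕ) : ℕ := bif Nat.blt j 57 then E_56 else E_57
def eT_59_61 (j : ℕ) : ℕ := bif Nat.blt j 60 then E_59 else E_60
def eT_58_61 (j : ℕ) : ℕ := bif Nat.blt j 59 then E_58 else (eT_59_61 j)
def eT_56_61 (j : ℕ) : ℕ := bif Nat.blt j 58 then (eT_56_58 j) else (eT_58_61 j)
def eT_52_61 (j : ℕ) : ℕ := bif Nat.blt j 56 then (eT_52_56 j) else (eT_56_61 j)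
def eT_61_63 (j : ℕ) : ℕ := bif Nat.blt j 62 then E_61 else E_62
def eT_63_65 (j : ℕ) : ℕ := bif Nat.blt j 64 then E_63 else E_64
def eT_61_65 (j : ℕ) : ℕ := bif Nat.blt j 63 then (eT_61_63 j) else (eT_63_65 j)
def eT_65_67 (j : ℕ) : ℕ := bif Nat.blt j 66 then E_65 else E_66
def eT_68_70 (j : ℕ) : ℕ := bif Nat.blt j 69 then E_68 else E_69
def eT_67_70 (j : ℕ) : ℕ := bif Nat.blt j 68 then E_67 else (eT_68_70 j)
def eT_65_70 (j : ℕ) : ℕ := bif Nat.blt j 67 then (eT_65_67 j) else (eT_67_70 j)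
def eT_61_70 (j : ℕ) : ℕ := bif Nat.blt j 65 then (eT_61_65 j) else (eT_65_70 j)
def eT_52_70 (j : ℕ) : ℕ := bif Nat.blt j 61 then (eT_52_61 j) else (eT_61_70 j)
def eT_35_70 (j : ℕ) : ℕ := bif Nat.blt j 52 then (eT_35_52 j) else (eT_52_70 j)
def eT_0_70 (j : ℕ) : ℕ := bif Nat.blt j 35 then (eT_0_35 j) else (eT_35_70 j)
def eT_70_72 (j : ℕ) : ℕ := bif Nat.blt j 71 then E_70 else E_71
def eT_72_74 (j : ℕ) : ℕ := bif Nat.blt j 73 then E_72 else E_73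
def eT_70_74 (j : ℕ) : ℕ := bif Nat.blt j 72 then (eT_70_72 j) else (eT_72_74 j)
def eT_74_76 (j : ℕ) : ℕ := bif Nat.blt j 75 then E_74 else E_75
def eT_76_78 (j : ℕ) : ℕ := bif Nat.blt j 77 then E_76 else E_77
def eT_74_78 (j : ℕ) : ℕ := bif Nat.blt j 76 then (eT_74_76 j) else (eT_76_78 j)
def eT_70_78 (j : ℕ) : ℕ := bif Nat.blt j 74 then (eT_70_74 j) else (eT_74_78 j)
def eT_78_80 (j : ℕ) : ℕ := bif Nat.blt j 79 then E_78 else E_79
def eT_80_82 (j : ℕ) : ℕ := bif Nat.blt j 81 then E_80 else E_81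
def eT_78_82 (j : ℕ) : ℕ := bif Nat.blt j 80 then (eT_78_80 j) else (eT_80_82 j)
def eT_82_84 (j : ℕ) : ℕ := bif Nat.blt j 83 then E_82 else E_83
def eT_85_87 (j : ℕ) : ℕ := bif Nat.blt j 86 then E_85 else E_86
def eT_84_87 (j : ℕ) : ℕ := bif Nat.blt j 85 then E_84 else (eT_85_87 j)
def eT_82_87 (j : ℕ) : ℕ := bif Nat.blt j 84 then (eT_82_84 j) else (eT_84_87 j)
def eT_78_87 (j : ℕ) : ℕ := bif Nat.blt j 82 then (eT_78_82 j) else (eT_82_87 j)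
def eT_70_87 (j : ℕ) : ℕ := bif Nat.blt j 78 then (eT_70_78 j) else (eT_78_87 j)
def eT_87_89 (j : ℕ) : ℕ := bif Nat.blt j 88 then E_87 else E_88
def eT_89_91 (j : ℕ) : ℕ := bif Nat.blt j 90 then E_89 else E_90
def eT_87_91 (j : ℕ) : ℕ := bif Nat.blt j 89 then (eT_87_89 j) else (eT_89_91 j)
def eT_91_93 (j : ℕ) : ℕ := bif Nat.blt j 92 then E_91 else E_92
def eT_94_96 (j : ℕ) : ℕ := bif Nat.blt j 95 then E_94 else E_95
def eT_93_96 (j : ℕ) : ℕ := bif Nat.blt j 94 then E_93 else (eT_94_96 j)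
def eT_91_96 (j : ℕ) : ℕ := bif Nat.blt j 93 then (eT_91_93 j) else (eT_93_96 j)
def eT_87_96 (j : ℕ) : ℕ := bif Nat.blt j 91 then (eT_87_91 j) else (eT_91_96 j)
def eT_96_98 (j : ℕ) : ℕ := bif Nat.blt j 97 then E_96 else E_97
def eT_98_100 (j : ℕ) : ℕ := bif Nat.blt j 99 then E_98 else E_99
def eT_96_100 (j : ℕ) : ℕ := bif Nat.blt j 98 then (eT_96_98 j) else (eT_98_100 j)
def eT_100_102 (j : ℕ) : ℕ := bif Nat.blt j 101 then E_100 else E_101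
def eT_103_105 (j : ℕ) : ℕ := bif Nat.blt j 104 then E_103 else E_104
def eT_102_105 (j : ℕ) : ℕ := bif Nat.blt j 103 then E_102 else (eT_103_105 j)
def eT_100_105 (j : ℕ) : ℕ := bif Nat.blt j 102 then (eT_100_102 j) else (eT_102_105 j)
def eT_96_105 (j : ℕ) : ℕ := bif Nat.blt j 100 then (eT_96_100 j) else (eT_100_105 j)
def eT_87_105 (j : ℕ) : ℕ := bif Nat.blt j 96 then (eT_87_96 j) else (eT_96_105 j)
def eT_70_105 (j : ℕ) : ℕ := bif Nat.blt j 87 then (eT_70_87 j) else (eT_87_105 j)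
def eT_105_107 (j : ℕ) : ℕ := bif Nat.blt j 106 then E_105 else E_106
def eT_107_109 (j : ℕ) : ℕ := bif Nat.blt j 108 then E_107 else E_108
def eT_105_109 (j : ℕ) : ℕ := bif Nat.blt j 107 then (eT_105_107 j) else (eT_107_109 j)
def eT_109_111 (j : ℕ) : ℕ := bif Nat.blt j 110 then E_109 else E_110
def eT_112_114 (j : ℕ) : ℕ := bif Nat.blt j 113 then E_112 else E_113
def eT_111_114 (j : ℕ) : ℕ := bif Nat.blt j 112 then E_111 else (eT_112_114 j)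
def eT_109_114 (j : ℕ) : ℕ := bif Nat.blt j 111 then (eT_109_111 j) else (eT_111_114 j)
def eT_105_114 (j : ℕ) : ℕ := bif Nat.blt j 109 then (eT_105_109 j) else (eT_109_114 j)
def eT_114_116 (j : ℕ) : ℕ := bif Nat.blt j 115 then E_114 else E_115
def eT_116_118 (j : ℕ) : ℕ := bif Nat.blt j 117 then E_116 else E_117
def eT_114_118 (j : ℕ) : ℕ := bif Nat.blt j 116 then (eT_114_116 j) else (eT_116_118 j)
def eT_118_120 (j : ℕ) : ℕ := bif Nat.blt j 119 then E_118 else E_119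
def eT_121_123 (j : ℕ) : ℕ := bif Nat.blt j 122 then E_121 else E_122
def eT_120_123 (j : ℕ) : ℕ := bif Nat.blt j 121 then E_120 else (eT_121_123 j)
def eT_118_123 (j : ℕ) : ℕ := bif Nat.blt j 120 then (eT_118_120 j) else (eT_120_123 j)
def eT_114_123 (j : ℕ) : ℕ := bif Nat.blt j 118 then (eT_114_118 j) else (eT_118_123 j)
def eT_105_123 (j : ℕ) : ℕ := bif Nat.blt j 114 then (eT_105_114 j) else (eT_114_123 j)
def eT_123_125 (j : ℕ) : ℕ := bif Nat.blt j 124 then E_123 else E_124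
def eT_125_127 (j : ℕ) : ℕ := bif Nat.blt j 126 then E_125 else E_126
def eT_123_127 (j : ℕ) : ℕ := bif Nat.blt j 125 then (eT_123_125 j) else (eT_125_127 j)
def eT_127_129 (j : ℕ) : ℕ := bif Nat.blt j 128 then E_127 else E_128
def eT_130_132 (j : ℕ) : ℕ := bif Nat.blt j 131 then E_130 else E_131
def eT_129_132 (j : ℕ) : ℕ := bif Nat.blt j 130 then E_129 else (eT_130_132 j)
def eT_127_132 (j : ℕ) : ℕ := bif Nat.blt j 129 then (eT_127_129 j) else (eT_129_132 j)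
def eT_123_132 (j : ℕ) : ℕ := bif Nat.blt j 127 then (eT_123_127 j) else (eT_127_132 j)
def eT_132_134 (j : ℕ) : ℕ := bif Nat.blt j 133 then E_132 else E_133
def eT_134_136 (j : ℕ) : ℕ := bif Nat.blt j 135 then E_134 else E_135
def eT_132_136 (j : ℕ) : ℕ := bif Nat.blt j 134 then (eT_132_134 j) else (eT_134_136 j)
def eT_136_138 (j : ℕ) : ℕ := bif Nat.blt j 137 then E_136 else E_137
def eT_139_141 (j : ℕ) : ℕ := bif Nat.blt j 140 then E_139 else E_140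
def eT_138_141 (j : ℕ) : ℕ := bif Nat.blt j 139 then E_138 else (eT_139_141 j)
def eT_136_141 (j : ℕ) : ℕ := bif Nat.blt j 138 then (eT_136_138 j) else (eT_138_141 j)
def eT_132_141 (j : ℕ) : ℕ := bif Nat.blt j 136 then (eT_132_136 j) else (eT_136_141 j)
def eT_123_141 (j : ℕ) : ℕ := bif Nat.blt j 132 then (eT_123_132 j) else (eT_132_141 j)
def eT_105_141 (j : ℕ) : ℕ := bif Nat.blt j 123 then (eT_105_123 j) else (eT_123_141 j)
def eT_70_141 (j : ℕ) : ℕ := bif Nat.blt j 105 then (eT_70_105 j) else (eT_105_141 j)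
def eT_0_141 (j : ℕ) : ℕ := bif Nat.blt j 70 then (eT_0_70 j) else (eT_70_141 j)
def eT_141_143 (j : ℕ) : ℕ := bif Nat.blt j 142 then E_141 else E_142
def eT_143_145 (j : ℕ) : ℕ := bif Nat.blt j 144 then E_143 else E_144
def eT_141_145 (j : ℕ) : ℕ := bif Nat.blt j 143 then (eT_141_143 j) else (eT_143_145 j)
def eT_145_147 (j : ℕ) : ℕ := bif Nat.blt j 146 then E_145 else E_146
def eT_147_149 (j : ℕ) : ℕ := bif Nat.blt j 148 then E_147 else E_148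
def eT_145_149 (j : ℕ) : ℕ := bif Nat.blt j 147 then (eT_145_147 j) else (eT_147_149 j)
def eT_141_149 (j : ℕ) : ℕ := bif Nat.blt j 145 then (eT_141_145 j) else (eT_145_149 j)
def eT_149_151 (j : ℕ) : ℕ := bif Nat.blt j 150 then E_149 else E_150
def eT_151_153 (j : ℕ) : ℕ := bif Nat.blt j 152 then E_151 else E_152
def eT_149_153 (j : ℕ) : ℕ := bif Nat.blt j 151 then (eT_149_151 j) else (eT_151_153 j)
def eT_153_155 (j : ℕ) : ℕ := bif Nat.blt j 154 then E_153 else E_154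
def eT_156_158 (j : ℕ) : ℕ := bif Nat.blt j 157 then E_156 else E_157
def eT_155_158 (j : ℕ) : ℕ := bif Nat.blt j 156 then E_155 else (eT_156_158 j)
def eT_153_158 (j : ℕ) : ℕ := bif Nat.blt j 155 then (eT_153_155 j) else (eT_155_158 j)
def eT_149_158 (j : ℕ) : ℕ := bif Nat.blt j 153 then (eT_149_153 j) else (eT_153_158 j)
def eT_141_158 (j : ℕ) : ℕ := bif Nat.blt j 149 then (eT_141_149 j) else (eT_149_158 j)
def eT_158_160 (j : ℕ) : ℕ := bif Nat.blt j 159 then E_158 else E_159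
def eT_160_162 (j : ℕ) : ℕ := bif Nat.blt j 161 then E_160 else E_161
def eT_158_162 (j : ℕ) : ℕ := bif Nat.blt j 160 then (eT_158_160 j) else (eT_160_162 j)
def eT_162_164 (j : ℕ) : ℕ := bif Nat.blt j 163 then E_162 else E_163
def eT_165_167 (j : ℕ) : ℕ := bif Nat.blt j 166 then E_165 else E_166
def eT_164_167 (j : ℕ) : ℕ := bif Nat.blt j 165 then E_164 else (eT_165_167 j)
def eT_162_167 (j : ℕ) : ℕ := bif Nat.blt j 164 then (eT_162_164 j) else (eT_164_167 j)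
def eT_158_167 (j : ℕ) : ℕ := bif Nat.blt j 162 then (eT_158_162 j) else (eT_162_167 j)
def eT_167_169 (j : ℕ) : ℕ := bif Nat.blt j 168 then E_167 else E_168
def eT_169_171 (j : ℕ) : ℕ := bif Nat.blt j 170 then E_169 else E_170
def eT_167_171 (j : ℕ) : ℕ := bif Nat.blt j 169 then (eT_167_169 j) else (eT_169_171 j)
def eT_171_173 (j : ℕ) : ℕ := bif Nat.blt j 172 then E_171 else E_172
def eT_174_176 (j : ℕ) : ℕ := bif Nat.blt j 175 then E_174 else E_175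
def eT_173_176 (j : ℕ) : ℕ := bif Nat.blt j 174 then E_173 else (eT_174_176 j)
def eT_171_176 (j : ℕ) : ℕ := bif Nat.blt j 173 then (eT_171_173 j) else (eT_173_176 j)
def eT_167_176 (j : ℕ) : ℕ := bif Nat.blt j 171 then (eT_167_171 j) else (eT_171_176 j)
def eT_158_176 (j : ℕ) : ℕ := bif Nat.blt j 167 then (eT_158_167 j) else (eT_167_176 j)
def eT_141_176 (j : ℕ) : ℕ := bif Nat.blt j 158 then (eT_141_158 j) else (eT_158_176 j)
def eT_176_178 (j : ℕ) : ℕ := bif Nat.blt j 177 then E_176 else E_177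
def eT_178_180 (j : ℕ) : ℕ := bif Nat.blt j 179 then E_178 else E_179
def eT_176_180 (j : ℕ) : ℕ := bif Nat.blt j 178 then (eT_176_178 j) else (eT_178_180 j)
def eT_180_182 (j : ℕ) : ℕ := bif Nat.blt j 181 then E_180 else E_181
def eT_182_184 (j : ℕ) : ℕ := bif Nat.blt j 183 then E_182 else E_183
def eT_180_184 (j : ℕ) : ℕ := bif Nat.blt j 182 then (eT_180_182 j) else (eT_182_184 j)
def eT_176_184 (j : ℕ) : ℕ := bif Nat.blt j 180 then (eT_176_180 j) else (eT_180_184 j)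
def eT_184_186 (j : ℕ) : ℕ := bif Nat.blt j 185 then E_184 else E_185
def eT_186_188 (j : ℕ) : ℕ := bif Nat.blt j 187 then E_186 else E_187
def eT_184_188 (j : ℕ) : ℕ := bif Nat.blt j 186 then (eT_184_186 j) else (eT_186_188 j)
def eT_188_190 (j : ℕ) : ℕ := bif Nat.blt j 189 then E_188 else E_189
def eT_191_193 (j : ℕ) : ℕ := bif Nat.blt j 192 then E_191 else E_192
def eT_190_193 (j : ℕ) : ℕ := bif Nat.blt j 191 then E_190 else (eT_191_193 j)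
def eT_188_193 (j : ℕ) : ℕ := bif Nat.blt j 190 then (eT_188_190 j) else (eT_190_193 j)
def eT_184_193 (j : ℕ) : ℕ := bif Nat.blt j 188 then (eT_184_188 j) else (eT_188_193 j)
def eT_176_193 (j : ℕ) : ℕ := bif Nat.blt j 184 then (eT_176_184 j) else (eT_184_193 j)
def eT_193_195 (j : ℕ) : ℕ := bif Nat.blt j 194 then E_193 else E_194
def eT_195_197 (j : ℕ) : ℕ := bif Nat.blt j 196 then E_195 else E_196
def eT_193_197 (j : ℕ) : ℕ := bif Nat.blt j 195 then (eT_193_195 j) else (eT_195_197 j)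
def eT_197_199 (j : ℕ) : ℕ := bif Nat.blt j 198 then E_197 else E_198
def eT_200_202 (j : ℕ) : ℕ := bif Nat.blt j 201 then E_200 else E_201
def eT_199_202 (j : ℕ) : ℕ := bif Nat.blt j 200 then E_199 else (eT_200_202 j)
def eT_197_202 (j : ℕ) : ℕ := bif Nat.blt j 199 then (eT_197_199 j) else (eT_199_202 j)
def eT_193_202 (j : ℕ) : ℕ := bif Nat.blt j 197 then (eT_193_197 j) else (eT_197_202 j)
def eT_202_204 (j : ℕ) : ℕ := bif Nat.blt j 203 then E_202 else E_203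
def eT_204_206 (j : ℕ) : ℕ := bif Nat.blt j 205 then E_204 else E_205
def eT_202_206 (j : ℕ) : ℕ := bif Nat.blt j 204 then (eT_202_204 j) else (eT_204_206 j)
def eT_206_208 (j : ℕ) : ℕ := bif Nat.blt j 207 then E_206 else E_207
def eT_209_211 (j : ℕ) : ℕ := bif Nat.blt j 210 then E_209 else E_210
def eT_208_211 (j : ℕ) : ℕ := bif Nat.blt j 209 then E_208 else (eT_209_211 j)
def eT_206_211 (j : ℕ) : ℕ := bif Nat.blt j 208 then (eT_206_208 j) else (eT_208_211 j)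
def eT_202_211 (j : ℕ) : ℕ := bif Nat.blt j 206 then (eT_202_206 j) else (eT_206_211 j)
def eT_193_211 (j : ℕ) : ℕ := bif Nat.blt j 202 then (eT_193_202 j) else (eT_202_211 j)
def eT_176_211 (j : ℕ) : ℕ := bif Nat.blt j 193 then (eT_176_193 j) else (eT_193_211 j)
def eT_141_211 (j : ℕ) : ℕ := bif Nat.blt j 176 then (eT_141_176 j) else (eT_176_211 j)
def eT_211_213 (j : ℕ) : ℕ := bif Nat.blt j 212 then E_211 else E_212
def eT_213_215 (j : ℕ) : ℕ := bif Nat.blt j 214 then E_213 else E_214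
def eT_211_215 (j : ℕ) : ℕ := bif Nat.blt j 213 then (eT_211_213 j) else (eT_213_215 j)
def eT_215_217 (j : ℕ) : ℕ := bif Nat.blt j 216 then E_215 else E_216
def eT_217_219 (j : ℕ) : ℕ := bif Nat.blt j 218 then E_217 else E_218
def eT_215_219 (j : ℕ) : ℕ := bif Nat.blt j 217 then (eT_215_217 j) else (eT_217_219 j)
def eT_211_219 (j : ℕ) : ℕ := bif Nat.blt j 215 then (eT_211_215 j) else (eT_215_219 j)
def eT_219_221 (j : ℕ) : ℕ := bif Nat.blt j 220 then E_219 else E_220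
def eT_221_223 (j : ℕ) : ℕ := bif Nat.blt j 222 then E_221 else E_222
def eT_219_223 (j : ℕ) : ℕ := bif Nat.blt j 221 then (eT_219_221 j) else (eT_221_223 j)
def eT_223_225 (j : ℕ) : ℕ := bif Nat.blt j 224 then E_223 else E_224
def eT_226_228 (j : ℕ) : ℕ := bif Nat.blt j 227 then E_226 else E_227
def eT_225_228 (j : ℕ) : ℕ := bif Nat.blt j 226 then E_225 else (eT_226_228 j)
def eT_223_228 (j : ℕ) : ℕ := bif Nat.blt j 225 then (eT_223_225 j) else (eT_225_228 j)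
def eT_219_228 (j : ℕ) : ℕ := bif Nat.blt j 223 then (eT_219_223 j) else (eT_223_228 j)
def eT_211_228 (j : ℕ) : ℕ := bif Nat.blt j 219 then (eT_211_219 j) else (eT_219_228 j)
def eT_228_230 (j : ℕ) : ℕ := bif Nat.blt j 229 then E_228 else E_229
def eT_230_232 (j : ℕ) : ℕ := bif Nat.blt j 231 then E_230 else E_231
def eT_228_232 (j : ℕ) : ℕ := bif Nat.blt j 230 then (eT_228_230 j) else (eT_230_232 j)
def eT_232_234 (j : ℕ) : ℕ := bif Nat.blt j 233 then E_232 else E_233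
def eT_235_237 (j : ℕ) : ℕ := bif Nat.blt j 236 then E_235 else E_236
def eT_234_237 (j : ℕ) : ℕ := bif Nat.blt j 235 then E_234 else (eT_235_237 j)
def eT_232_237 (j : ℕ) : ℕ := bif Nat.blt j 234 then (eT_232_234 j) else (eT_234_237 j)
def eT_228_237 (j : ℕ) : ℕ := bif Nat.blt j 232 then (eT_228_232 j) else (eT_232_237 j)
def eT_237_239 (j : ℕ) : ℕ := bif Nat.blt j 238 then E_237 else E_238
def eT_239_241 (j : ℕ) : ℕ := bif Nat.blt j 240 then E_239 else E_240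
def eT_237_241 (j : ℕ) : ℕ := bif Nat.blt j 239 then (eT_237_239 j) else (eT_239_241 j)
def eT_241_243 (j : ℕ) : ℕ := bif Nat.blt j 242 then E_241 else E_242
def eT_244_246 (j : ℕ) : ℕ := bif Nat.blt j 245 then E_244 else E_245
def eT_243_246 (j : ℕ) : ℕ := bif Nat.blt j 244 then E_243 else (eT_244_246 j)
def eT_241_246 (j : ℕ) : ℕ := bif Nat.blt j 243 then (eT_241_243 j) else (eT_243_246 j)
def eT_237_246 (j : ℕ) : ℕ := bif Nat.blt j 241 then (eT_237_241 j) else (eT_241_246 j)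
def eT_228_246 (j : ℕ) : ℕ := bif Nat.blt j 237 then (eT_228_237 j) else (eT_237_246 j)
def eT_211_246 (j : ℕ) : ℕ := bif Nat.blt j 228 then (eT_211_228 j) else (eT_228_246 j)
def eT_246_248 (j : ℕ) : ℕ := bif Nat.blt j 247 then E_246 else E_247
def eT_248_250 (j : ℕ) : ℕ := bif Nat.blt j 249 then E_248 else E_249
def eT_246_250 (j : ℕ) : ℕ := bif Nat.blt j 248 then (eT_246_248 j) else (eT_248_250 j)
def eT_250_252 (j : ℕ) : ℕ := bif Nat.blt j 251 then E_250 else E_251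
def eT_253_255 (j : ℕ) : ℕ := bif Nat.blt j 254 then E_253 else E_254
def eT_252_255 (j : ℕ) : ℕ := bif Nat.blt j 253 then E_252 else (eT_253_255 j)
def eT_250_255 (j : ℕ) : ℕ := bif Nat.blt j 252 then (eT_250_252 j) else (eT_252_255 j)
def eT_246_255 (j : ℕ) : ℕ := bif Nat.blt j 250 then (eT_246_250 j) else (eT_250_255 j)
def eT_255_257 (j : ℕ) : ℕ := bif Nat.blt j 256 then E_255 else E_256
def eT_257_259 (j : ℕ) : ℕ := bif Nat.blt j 258 then E_257 else E_258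
def eT_255_259 (j : ℕ) : ℕ := bif Nat.blt j 257 then (eT_255_257 j) else (eT_257_259 j)
def eT_259_261 (j : ℕ) : ℕ := bif Nat.blt j 260 then E_259 else E_260
def eT_262_264 (j : ℕ) : ℕ := bif Nat.blt j 263 then E_262 else E_263
def eT_261_264 (j : ℕ) : ℕ := bif Nat.blt j 262 then E_261 else (eT_262_264 j)
def eT_259_264 (j : ℕ) : ℕ := bif Nat.blt j 261 then (eT_259_261 j) else (eT_261_264 j)
def eT_255_264 (j : ℕ) : ℕ := bif Nat.blt j 259 then (eT_255_259 j) else (eT_259_264 j)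
def eT_246_264 (j : ℕ) : ℕ := bif Nat.blt j 255 then (eT_246_255 j) else (eT_255_264 j)
def eT_264_266 (j : ℕ) : ℕ := bif Nat.blt j 265 then E_264 else E_265
def eT_266_268 (j : ℕ) : ℕ := bif Nat.blt j 267 then E_266 else E_267
def eT_264_268 (j : ℕ) : ℕ := bif Nat.blt j 266 then (eT_264_266 j) else (eT_266_268 j)
def eT_268_270 (j : ℕ) : ℕ := bif Nat.blt j 269 then E_268 else E_269
def eT_271_273 (j : ℕ) : ℕ := bif Nat.blt j 272 then E_271 else E_272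
def eT_270_273 (j : ℕ) : ℕ := bif Nat.blt j 271 then E_270 else (eT_271_273 j)
def eT_268_273 (j : ℕ) : ℕ := bif Nat.blt j 270 then (eT_268_270 j) else (eT_270_273 j)
def eT_264_273 (j : ℕ) : ℕ := bif Nat.blt j 268 then (eT_264_268 j) else (eT_268_273 j)
def eT_273_275 (j : ℕ) : ℕ := bif Nat.blt j 274 then E_273 else E_274
def eT_275_277 (j : ℕ) : ℕ := bif Nat.blt j 276 then E_275 else E_276
def eT_273_277 (j : ℕ) : ℕ := bif Nat.blt j 275 then (eT_273_275 j) else (eT_275_277 j)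
def eT_277_279 (j : ℕ) : ℕ := bif Nat.blt j 278 then E_277 else E_278
def eT_280_282 (j : ℕ) : ℕ := bif Nat.blt j 281 then E_280 else E_281
def eT_279_282 (j : ℕ) : ℕ := bif Nat.blt j 280 then E_279 else (eT_280_282 j)
def eT_277_282 (j : ℕ) : ℕ := bif Nat.blt j 279 then (eT_277_279 j) else (eT_279_282 j)
def eT_273_282 (j : ℕ) : ℕ := bif Nat.blt j 277 then (eT_273_277 j) else (eT_277_282 j)
def eT_264_282 (j : ℕ) : ℕ := bif Nat.blt j 273 then (eT_264_273 j) else (eT_273_282 j)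
def eT_246_282 (j : ℕ) : ℕ := bif Nat.blt j 264 then (eT_246_264 j) else (eT_264_282 j)
def eT_211_282 (j : ℕ) : ℕ := bif Nat.blt j 246 then (eT_211_246 j) else (eT_246_282 j)
def eT_141_282 (j : ℕ) : ℕ := bif Nat.blt j 211 then (eT_141_211 j) else (eT_211_282 j)
def eT_0_282 (j : ℕ) : ℕ := bif Nat.blt j 141 then (eT_0_141 j) else (eT_141_282 j)
def eT (j : ℕ) : ℕ := (eT_0_282 j)
noncomputable def chunkF (h : ℕ) : ℕ := Nat.rec (motive := fun _ => ℕ) (eT 0) (fun n _ => eT (Nat.succ n)) h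
noncomputable def Eo (r : ℕ) : ℕ := Nat.land (Nat.shiftRight (chunkF (Nat.shiftRight r 8)) (Nat.mul (Nat.land r 255) 54)) 18014398509481983
def invT : ℕ := 0xffef7cefae78df6d74cf2c70beeb6caeaa689e69648e28607de75c6da6585d65544d24503ce34c2ca2481c61440c2040
def inv (y : ℕ) : ℕ := invOf invT y
def Wt_1_3 (j : ℕ) : List ℕ := bif Nat.blt j 2 then [nat_lit 2, nat_lit 6, nat_lit 2, nat_lit 6] else [nat_lit 3, nat_lit 6, nat_lit 3, nat_lit 6]
def Wt_0_3 (j : ℕ) : List ℕ := bif Nat.blt j 1 then [nat_lit 0, nat_lit 6, nat_lit 0, nat_lit 6] else (Wt_1_3 j)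
def Wt_3_5 (j : ℕ) : List ℕ := bif Nat.blt j 4 then [nat_lit 4, nat_lit 6, nat_lit 4, nat_lit 6] else [nat_lit 5, nat_lit 6, nat_lit 0, nat_lit 5, nat_lit 6]
def Wt_5_7 (j : ℕ) : List ℕ := bif Nat.blt j 6 then [nat_lit 6, nat_lit 1, nat_lit 6, nat_lit 1, nat_lit 6, nat_lit 1] else [nat_lit 3, nat_lit 1, nat_lit 3, nat_lit 1]
def Wt_3_7 (j : ℕ) : List ℕ := bif Nat.blt j 5 then (Wt_3_5 j) else (Wt_5_7 j)
def Wt_0_7 (j : ℕ) : List ℕ := bif Nat.blt j 3 then (Wt_0_3 j) else (Wt_3_7 j)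
def Wt_8_10 (j : ℕ) : List ℕ := bif Nat.blt j 9 then [nat_lit 6, nat_lit 5, nat_lit 1, nat_lit 6, nat_lit 5, nat_lit 1, nat_lit 6, nat_lit 5, nat_lit 1, nat_lit 6, nat_lit 5, nat_lit 1, nat_lit 6, nat_lit 5, nat_lit 1] else [nat_lit 0, nat_lit 6, nat_lit 5, nat_lit 6, nat_lit 5]
def Wt_7_10 (j : ℕ) : List ℕ := bif Nat.blt j 8 then [nat_lit 4, nat_lit 1, nat_lit 4, nat_lit 1] else (Wt_8_10 j)
def Wt_10_12 (j : ℕ) : List ℕ := bif Nat.blt j 11 then [nat_lit 63, nat_lit 5, nat_lit 1, nat_lit 5, nat_lit 1, nat_lit 5, nat_lit 1] else [nat_lit 1, nat_lit 1, nat_lit 63]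
def Wt_12_14 (j : ℕ) : List ℕ := bif Nat.blt j 13 then [nat_lit 63, nat_lit 6, nat_lit 63, nat_lit 6] else [nat_lit 0, nat_lit 0, nat_lit 63]
def Wt_10_14 (j : ℕ) : List ℕ := bif Nat.blt j 12 then (Wt_10_12 j) else (Wt_12_14 j)
def Wt_7_14 (j : ℕ) : List ℕ := bif Nat.blt j 10 then (Wt_7_10 j) else (Wt_10_14 j)
def Wt_0_14 (j : ℕ) : List ℕ := bif Nat.blt j 7 then (Wt_0_7 j) else (Wt_7_14 j)
def Wt_15_17 (j : ℕ) : List ℕ := bif Nat.blt j 16 then [nat_lit 0, nat_lit 5, nat_lit 6, nat_lit 5, nat_lit 6] else [nat_lit 3, nat_lit 0, nat_lit 3, nat_lit 0]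
def Wt_14_17 (j : ℕ) : List ℕ := bif Nat.blt j 15 then [nat_lit 6, nat_lit 6, nat_lit 63] else (Wt_15_17 j)
def Wt_17_19 (j : ℕ) : List ℕ := bif Nat.blt j 18 then [nat_lit 4, nat_lit 0, nat_lit 4, nat_lit 0] else [nat_lit 1, nat_lit 2, nat_lit 1, nat_lit 2, nat_lit 1, nat_lit 2]
def Wt_19_21 (j : ℕ) : List ℕ := bif Nat.blt j 20 then [nat_lit 4, nat_lit 2, nat_lit 4, nat_lit 2] else [nat_lit 6, nat_lit 2, nat_lit 6, nat_lit 2]
def Wt_17_21 (j : ℕ) : List ℕ := bif Nat.blt j 19 then (Wt_17_19 j) else (Wt_19_21 j)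
def Wt_14_21 (j : ℕ) : List ℕ := bif Nat.blt j 17 then (Wt_14_17 j) else (Wt_17_21 j)
def Wt_22_24 (j : ℕ) : List ℕ := bif Nat.blt j 23 then [nat_lit 2, nat_lit 5, nat_lit 2, nat_lit 5] else [nat_lit 4, nat_lit 5, nat_lit 4, nat_lit 5]
def Wt_21_24 (j : ℕ) : List ℕ := bif Nat.blt j 22 then [nat_lit 5, nat_lit 2, nat_lit 1, nat_lit 0, nat_lit 5, nat_lit 2, nat_lit 1, nat_lit 0, nat_lit 5, nat_lit 2, nat_lit 1, nat_lit 0, nat_lit 5, nat_lit 2, nat_lit 1, nat_lit 0, nat_lit 5, nat_lit 2, nat_lit 1, nat_lit 0] else (Wt_22_24 j)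
def Wt_24_26 (j : ℕ) : List ℕ := bif Nat.blt j 25 then [nat_lit 6, nat_lit 0, nat_lit 5, nat_lit 6, nat_lit 5] else [nat_lit 63, nat_lit 2, nat_lit 6, nat_lit 2, nat_lit 6]
def Wt_26_28 (j : ℕ) : List ℕ := bif Nat.blt j 27 then [nat_lit 63, nat_lit 1, nat_lit 63, nat_lit 1] else [nat_lit 2, nat_lit 2, nat_lit 63]
def Wt_24_28 (j : ℕ) : List ℕ := bif Nat.blt j 26 then (Wt_24_26 j) else (Wt_26_28 j)
def Wt_21_28 (j : ℕ) : List ℕ := bif Nat.blt j 24 then (Wt_21_24 j) else (Wt_24_28 j)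
def Wt_14_28 (j : ℕ) : List ℕ := bif Nat.blt j 21 then (Wt_14_21 j) else (Wt_21_28 j)
def Wt_0_28 (j : ℕ) : List ℕ := bif Nat.blt j 14 then (Wt_0_14 j) else (Wt_14_28 j)
def Wt_29_31 (j : ℕ) : List ℕ := bif Nat.blt j 30 then [nat_lit 63, nat_lit 1, nat_lit 3, nat_lit 1, nat_lit 3] else [nat_lit 63, nat_lit 2, nat_lit 63, nat_lit 2]
def Wt_28_31 (j : ℕ) : List ℕ := bif Nat.blt j 29 then [nat_lit 3, nat_lit 2, nat_lit 3, nat_lit 2, nat_lit 1, nat_lit 4, nat_lit 3, nat_lit 2, nat_lit 3, nat_lit 2, nat_lit 1, nat_lit 3, nat_lit 2, nat_lit 3, nat_lit 2, nat_lit 1, nat_lit 3, nat_lit 2, nat_lit 3, nat_lit 2, nat_lit 1, nat_lit 3, nat_lit 2, nat_lit 3, nat_lit 2, nat_lit 1, nat_lit 3, nat_lit 2, nat_lit 3, nat_lit 2, nat_lit 1, nat_lit 4, nat_lit 3, nat_lit 2, nat_lit 3, nat_lit 2, nat_lit 1, nat_lit 3, nat_lit 2, nat_lit 3, nat_lit 2, nat_lit 1, nat_lit 3, nat_lit 2, nat_lit 3, nat_lit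 2, nat_lit 1, nat_lit 3, nat_lit 2, nat_lit 3, nat_lit 2, nat_lit 1, nat_lit 3, nat_lit 2, nat_lit 3, nat_lit 2, nat_lit 1, nat_lit 4, nat_lit 3, nat_lit 2, nat_lit 3, nat_lit 2, nat_lit 1, nat_lit 3, nat_lit 2, nat_lit 3, nat_lit 2, nat_lit 1, nat_lit 3, nat_lit 2, nat_lit 3, nat_lit 2, nat_lit 1, nat_lit 3, nat_lit 2, nat_lit 3, nat_lit 2, nat_lit 1] else (Wt_29_31 j)
def Wt_31_33 (j : ℕ) : List ℕ := bif Nat.blt j 32 then [nat_lit 63, nat_lit 3, nat_lit 63, nat_lit 3] else [nat_lit 3, nat_lit 3, nat_lit 63]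
def Wt_33_35 (j : ℕ) : List ℕ := bif Nat.blt j 34 then [nat_lit 0, nat_lit 3, nat_lit 2, nat_lit 3, nat_lit 2, nat_lit 3, nat_lit 2, nat_lit 3, nat_lit 2] else [nat_lit 63, nat_lit 3, nat_lit 1, nat_lit 3, nat_lit 1]
def Wt_31_35 (j : ℕ) : List ℕ := bif Nat.blt j 33 then (Wt_31_33 j) else (Wt_33_35 j)
def Wt_28_35 (j : ℕ) : List ℕ := bif Nat.blt j 31 then (Wt_28_31 j) else (Wt_31_35 j)
def Wt_36_38 (j : ℕ) : List ℕ := bif Nat.blt j 37 then [nat_lit 6, nat_lit 3, nat_lit 6, nat_lit 3] else [nat_lit 6, nat_lit 0, nat_lit 6, nat_lit 0]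
def Wt_35_38 (j : ℕ) : List ℕ := bif Nat.blt j 36 then [nat_lit 1, nat_lit 3, nat_lit 1, nat_lit 3] else (Wt_36_38 j)
def Wt_38_40 (j : ℕ) : List ℕ := bif Nat.blt j 39 then [nat_lit 2, nat_lit 1, nat_lit 2, nat_lit 1, nat_lit 2, nat_lit 1] else [nat_lit 0, nat_lit 2, nat_lit 3, nat_lit 2, nat_lit 3, nat_lit 2, nat_lit 3, nat_lit 2, nat_lit 3]
def Wt_40_42 (j : ℕ) : List ℕ := bif Nat.blt j 41 then [nat_lit 2, nat_lit 0, nat_lit 2, nat_lit 0] else [nat_lit 5, nat_lit 2, nat_lit 5, nat_lit 2]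
def Wt_38_42 (j : ℕ) : List ℕ := bif Nat.blt j 40 then (Wt_38_40 j) else (Wt_40_42 j)
def Wt_35_42 (j : ℕ) : List ℕ := bif Nat.blt j 38 then (Wt_35_38 j) else (Wt_38_42 j)
def Wt_28_42 (j : ℕ) : List ℕ := bif Nat.blt j 35 then (Wt_28_35 j) else (Wt_35_42 j)
def Wt_43_45 (j : ℕ) : List ℕ := bif Nat.blt j 44 then [nat_lit 0, nat_lit 3, nat_lit 0, nat_lit 3] else [nat_lit 2, nat_lit 1, nat_lit 0, nat_lit 5, nat_lit 2, nat_lit 1, nat_lit 0, nat_lit 5, nat_lit 2, nat_lit 1, nat_lit 0, nat_lit 5, nat_lit 2, nat_lit 1, nat_lit 0, nat_lit 5, nat_lit 2, nat_lit 1, nat_lit 0, nat_lit 5]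
def Wt_42_45 (j : ℕ) : List ℕ := bif Nat.blt j 43 then [nat_lit 3, nat_lit 2, nat_lit 3, nat_lit 0, nat_lit 2, nat_lit 3, nat_lit 2, nat_lit 3, nat_lit 2] else (Wt_43_45 j)
def Wt_45_47 (j : ℕ) : List ℕ := bif Nat.blt j 46 then [nat_lit 63, nat_lit 2, nat_lit 1, nat_lit 2, nat_lit 1, nat_lit 2, nat_lit 1] else [nat_lit 5, nat_lit 5, nat_lit 63]
def Wt_47_49 (j : ℕ) : List ℕ := bif Nat.blt j 48 then [nat_lit 63, nat_lit 1, nat_lit 5, nat_lit 1, nat_lit 5, nat_lit 1, nat_lit 5] else [nat_lit 1, nat_lit 0, nat_lit 1, nat_lit 0, nat_lit 1, nat_lit 0, nat_lit 1, nat_lit 0, nat_lit 1, nat_lit 0]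
def Wt_45_49 (j : ℕ) : List ℕ := bif Nat.blt j 47 then (Wt_45_47 j) else (Wt_47_49 j)
def Wt_42_49 (j : ℕ) : List ℕ := bif Nat.blt j 45 then (Wt_42_45 j) else (Wt_45_49 j)
def Wt_50_52 (j : ℕ) : List ℕ := bif Nat.blt j 51 then [nat_lit 5, nat_lit 3, nat_lit 5, nat_lit 3] else [nat_lit 5, nat_lit 6, nat_lit 5, nat_lit 6, nat_lit 0]
def Wt_49_52 (j : ℕ) : List ℕ := bif Nat.blt j 50 then [nat_lit 4, nat_lit 3, nat_lit 2, nat_lit 3, nat_lit 2, nat_lit 1, nat_lit 3, nat_lit 2, nat_lit 3, nat_lit 2, nat_lit 1, nat_lit 3, nat_lit 2, nat_lit 3, nat_lit 2, nat_lit 1, nat_lit 3, nat_lit 2, nat_lit 3, nat_lit 2, nat_lit 1, nat_lit 3, nat_lit 2, nat_lit 3, nat_lit 2, nat_lit 1, nat_lit 4, nat_lit 3, nat_lit 2, nat_lit 3, nat_lit 2, nat_lit 1, nat_lit 3, nat_lit 2, nat_lit 3, nat_lit 2, nat_lit 1, nat_lit 3, nat_lit 2, nat_lit 3, nat_lit 2, nat_lit 1, nat_lit 3, nat_lit 2, nat_lit 3, nat_lit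 2, nat_lit 1, nat_lit 3, nat_lit 2, nat_lit 3, nat_lit 2, nat_lit 1, nat_lit 4, nat_lit 3, nat_lit 2, nat_lit 3, nat_lit 2, nat_lit 1, nat_lit 3, nat_lit 2, nat_lit 3, nat_lit 2, nat_lit 1, nat_lit 3, nat_lit 2, nat_lit 3, nat_lit 2, nat_lit 1, nat_lit 3, nat_lit 2, nat_lit 3, nat_lit 2, nat_lit 1, nat_lit 3, nat_lit 2, nat_lit 3, nat_lit 2, nat_lit 1] else (Wt_50_52 j)
def Wt_52_54 (j : ℕ) : List ℕ := bif Nat.blt j 53 then [nat_lit 5, nat_lit 0, nat_lit 5, nat_lit 0] else [nat_lit 1, nat_lit 3, nat_lit 2, nat_lit 3, nat_lit 2, nat_lit 1, nat_lit 4, nat_lit 3, nat_lit 2, nat_lit 3, nat_lit 2, nat_lit 1, nat_lit 3, nat_lit 2, nat_lit 3, nat_lit 2, nat_lit 1, nat_lit 3, nat_lit 2, nat_lit 3, nat_lit 2, nat_lit 1, nat_lit 3, nat_lit 2, nat_lit 3, nat_lit 2, nat_lit 1, nat_lit 3, nat_lit 2, nat_lit 3, nat_lit 2, nat_lit 1, nat_lit 4, nat_lit 3, nat_lit 2, nat_lit 3, nat_lit 2, nat_lit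 1, nat_lit 3, nat_lit 2, nat_lit 3, nat_lit 2, nat_lit 1, nat_lit 3, nat_lit 2, nat_lit 3, nat_lit 2, nat_lit 1, nat_lit 3, nat_lit 2, nat_lit 3, nat_lit 2, nat_lit 1, nat_lit 3, nat_lit 2, nat_lit 3, nat_lit 2, nat_lit 1, nat_lit 4, nat_lit 3, nat_lit 2, nat_lit 3, nat_lit 2, nat_lit 1, nat_lit 3, nat_lit 2, nat_lit 3, nat_lit 2, nat_lit 1, nat_lit 3, nat_lit 2, nat_lit 3, nat_lit 2, nat_lit 1, nat_lit 3, nat_lit 2, nat_lit 3, nat_lit 2]
def Wt_54_56 (j : ℕ) : List ℕ := bif Nat.blt j 55 then [nat_lit 63, nat_lit 0, nat_lit 5, nat_lit 0, nat_lit 5] else [nat_lit 1, nat_lit 5, nat_lit 1, nat_lit 5, nat_lit 1, nat_lit 5]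
def Wt_52_56 (j : ℕ) : List ℕ := bif Nat.blt j 54 then (Wt_52_54 j) else (Wt_54_56 j)
def Wt_49_56 (j : ℕ) : List ℕ := bif Nat.blt j 52 then (Wt_49_52 j) else (Wt_52_56 j)
def Wt_42_56 (j : ℕ) : List ℕ := bif Nat.blt j 49 then (Wt_42_49 j) else (Wt_49_56 j)
def Wt_28_56 (j : ℕ) : List ℕ := bif Nat.blt j 42 then (Wt_28_42 j) else (Wt_42_56 j)
def Wt_0_56 (j : ℕ) : List ℕ := bif Nat.blt j 28 then (Wt_0_28 j) else (Wt_28_56 j)
def Wt_57_59 (j : ℕ) : List ℕ := bif Nat.blt j 58 then [nat_lit 0, nat_lit 1, nat_lit 0, nat_lit 1, nat_lit 0, nat_lit 1, nat_lit 0, nat_lit 1, nat_lit 0, nat_lit 1] else [nat_lit 63, nat_lit 1, nat_lit 2, nat_lit 1, nat_lit 2, nat_lit 1, nat_lit 2]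
def Wt_56_59 (j : ℕ) : List ℕ := bif Nat.blt j 57 then [nat_lit 63, nat_lit 0, nat_lit 2, nat_lit 0, nat_lit 2] else (Wt_57_59 j)
def Wt_59_61 (j : ℕ) : List ℕ := bif Nat.blt j 60 then [nat_lit 0, nat_lit 63, nat_lit 0, nat_lit 63] else [nat_lit 63, nat_lit 0, nat_lit 63, nat_lit 0, nat_lit 63]
def Wt_61_63 (j : ℕ) : List ℕ := bif Nat.blt j 62 then [nat_lit 63, nat_lit 63, nat_lit 63] else [nat_lit 4, nat_lit 63, nat_lit 4, nat_lit 63]
def Wt_59_63 (j : ℕ) : List ℕ := bif Nat.blt j 61 then (Wt_59_61 j) else (Wt_61_63 j)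
def Wt_56_63 (j : ℕ) : List ℕ := bif Nat.blt j 59 then (Wt_56_59 j) else (Wt_59_63 j)
def Wt_64_66 (j : ℕ) : List ℕ := bif Nat.blt j 65 then [nat_lit 1, nat_lit 3, nat_lit 2, nat_lit 3, nat_lit 2, nat_lit 1, nat_lit 3, nat_lit 2, nat_lit 3, nat_lit 2, nat_lit 1, nat_lit 4, nat_lit 3, nat_lit 2, nat_lit 3, nat_lit 2, nat_lit 1, nat_lit 3, nat_lit 2, nat_lit 3, nat_lit 2, nat_lit 1, nat_lit 3, nat_lit 2, nat_lit 3, nat_lit 2, nat_lit 1, nat_lit 3, nat_lit 2, nat_lit 3, nat_lit 2, nat_lit 1, nat_lit 3, nat_lit 2, nat_lit 3, nat_lit 2, nat_lit 1, nat_lit 4, nat_lit 3, nat_lit 2, nat_lit 3, nat_lit 2, nat_lit 1, nat_lit 3, nat_lit 2, nat_lit 3, nat_lit 2, nat_lit 1, nat_lit 3, nat_lit 2, nat_lit 3, nat_lit 2, nat_lit 1, nat_lit 3, nat_lit 2, nat_lit 3, nat_lit 2, nat_lit 1, nat_lit 3, nat_lit 2, nat_lit 3, nat_lit 2, nat_lit 1, nat_lit 4, nat_lit 3, nat_lit 2, nat_lit 3, nat_lit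 2, nat_lit 1, nat_lit 3, nat_lit 2, nat_lit 3, nat_lit 2, nat_lit 1, nat_lit 3, nat_lit 2, nat_lit 3, nat_lit 2] else [nat_lit 3, nat_lit 2, nat_lit 3, nat_lit 2, nat_lit 1, nat_lit 3, nat_lit 2, nat_lit 3, nat_lit 2, nat_lit 1, nat_lit 4, nat_lit 3, nat_lit 2, nat_lit 3, nat_lit 2, nat_lit 1, nat_lit 3, nat_lit 2, nat_lit 3, nat_lit 2, nat_lit 1, nat_lit 3, nat_lit 2, nat_lit 3, nat_lit 2, nat_lit 1, nat_lit 3, nat_lit 2, nat_lit 3, nat_lit 2, nat_lit 1, nat_lit 3, nat_lit 2, nat_lit 3, nat_lit 2, nat_lit 1, nat_lit 4, nat_lit 3, nat_lit 2, nat_lit 3, nat_lit 2, nat_lit 1, nat_lit 3, nat_lit 2, nat_lit 3, nat_lit 2, nat_lit 1, nat_lit 3, nat_lit 2, nat_lit 3, nat_lit 2, nat_lit 1, nat_lit 3, nat_lit 2, nat_lit 3, nat_lit 2, nat_lit 1, nat_lit 3, nat_lit 2, nat_lit 3, nat_lit 2, nat_lit 1, nat_lit 4, nat_lit 3, nat_lit 2, nat_lit 3, nat_lit 2, nat_lit 1, nat_lit 3, nat_lit 2,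 nat_lit 3, nat_lit 2, nat_lit 1, nat_lit 3, nat_lit 2, nat_lit 3, nat_lit 2, nat_lit 1]
def Wt_63_66 (j : ℕ) : List ℕ := bif Nat.blt j 64 then [nat_lit 5, nat_lit 63, nat_lit 5, nat_lit 63] else (Wt_64_66 j)
def Wt_66_68 (j : ℕ) : List ℕ := bif Nat.blt j 67 then [nat_lit 3, nat_lit 4, nat_lit 3, nat_lit 4, nat_lit 3, nat_lit 4] else [nat_lit 1, nat_lit 4, nat_lit 1, nat_lit 4]
def Wt_68_70 (j : ℕ) : List ℕ := bif Nat.blt j 69 then [nat_lit 6, nat_lit 4, nat_lit 6, nat_lit 4] else [nat_lit 5, nat_lit 1, nat_lit 5, nat_lit 1, nat_lit 5, nat_lit 1]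
def Wt_66_70 (j : ℕ) : List ℕ := bif Nat.blt j 68 then (Wt_66_68 j) else (Wt_68_70 j)
def Wt_63_70 (j : ℕ) : List ℕ := bif Nat.blt j 66 then (Wt_63_66 j) else (Wt_66_70 j)
def Wt_56_70 (j : ℕ) : List ℕ := bif Nat.blt j 63 then (Wt_56_63 j) else (Wt_63_70 j)
def Wt_71_73 (j : ℕ) : List ℕ := bif Nat.blt j 72 then [nat_lit 63, nat_lit 1, nat_lit 6, nat_lit 1, nat_lit 6, nat_lit 1, nat_lit 6] else [nat_lit 63, nat_lit 5, nat_lit 63, nat_lit 5]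
def Wt_70_73 (j : ℕ) : List ℕ := bif Nat.blt j 71 then [nat_lit 63, nat_lit 6, nat_lit 0, nat_lit 5, nat_lit 6, nat_lit 5] else (Wt_71_73 j)
def Wt_73_75 (j : ℕ) : List ℕ := bif Nat.blt j 74 then [nat_lit 63, nat_lit 0, nat_lit 5, nat_lit 6, nat_lit 5, nat_lit 6] else [nat_lit 6, nat_lit 5, nat_lit 6, nat_lit 0, nat_lit 5]
def Wt_75_77 (j : ℕ) : List ℕ := bif Nat.blt j 76 then [nat_lit 6, nat_lit 1, nat_lit 5, nat_lit 6, nat_lit 1, nat_lit 5, nat_lit 6, nat_lit 1, nat_lit 5, nat_lit 6, nat_lit 1, nat_lit 5, nat_lit 6, nat_lit 1, nat_lit 5] else [nat_lit 3, nat_lit 2, nat_lit 1, nat_lit 3, nat_lit 2, nat_lit 3, nat_lit 2, nat_lit 1, nat_lit 3, nat_lit 2, nat_lit 3, nat_lit 2, nat_lit 1, nat_lit 4, nat_lit 3, nat_lit 2, nat_lit 3, nat_lit 2, nat_lit 1, nat_lit 3, nat_lit 2, nat_lit 3, nat_lit 2, nat_lit 1, nat_lit 3, nat_lit 2, nat_lit 3, nat_lit 2, nat_lit 1, nat_lit 3, nat_lit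 2, nat_lit 3, nat_lit 2, nat_lit 1, nat_lit 3, nat_lit 2, nat_lit 3, nat_lit 2, nat_lit 1, nat_lit 4, nat_lit 3, nat_lit 2, nat_lit 3, nat_lit 2, nat_lit 1, nat_lit 3, nat_lit 2, nat_lit 3, nat_lit 2, nat_lit 1, nat_lit 3, nat_lit 2, nat_lit 3, nat_lit 2, nat_lit 1, nat_lit 3, nat_lit 2, nat_lit 3, nat_lit 2, nat_lit 1, nat_lit 3, nat_lit 2, nat_lit 3, nat_lit 2, nat_lit 1, nat_lit 4, nat_lit 3, nat_lit 2, nat_lit 3, nat_lit 2, nat_lit 1, nat_lit 3, nat_lit 2, nat_lit 3, nat_lit 2, nat_lit 1, nat_lit 3, nat_lit 2]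
def Wt_73_77 (j : ℕ) : List ℕ := bif Nat.blt j 75 then (Wt_73_75 j) else (Wt_75_77 j)
def Wt_70_77 (j : ℕ) : List ℕ := bif Nat.blt j 73 then (Wt_70_73 j) else (Wt_73_77 j)
def Wt_78_80 (j : ℕ) : List ℕ := bif Nat.blt j 79 then [nat_lit 63, nat_lit 0, nat_lit 2, nat_lit 3, nat_lit 2, nat_lit 3, nat_lit 2, nat_lit 3, nat_lit 2, nat_lit 3] else [nat_lit 2, nat_lit 3, nat_lit 2, nat_lit 3, nat_lit 2, nat_lit 3, nat_lit 2, nat_lit 3, nat_lit 2, nat_lit 3, nat_lit 2, nat_lit 3, nat_lit 2, nat_lit 3, nat_lit 2, nat_lit 3]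
def Wt_77_80 (j : ℕ) : List ℕ := bif Nat.blt j 78 then [nat_lit 0, nat_lit 2, nat_lit 0, nat_lit 2] else (Wt_78_80 j)
def Wt_80_82 (j : ℕ) : List ℕ := bif Nat.blt j 81 then [nat_lit 4, nat_lit 4, nat_lit 63] else [nat_lit 2, nat_lit 3, nat_lit 2, nat_lit 1, nat_lit 3, nat_lit 2, nat_lit 3, nat_lit 2, nat_lit 1, nat_lit 4, nat_lit 3, nat_lit 2, nat_lit 3, nat_lit 2, nat_lit 1, nat_lit 3, nat_lit 2, nat_lit 3, nat_lit 2, nat_lit 1, nat_lit 3, nat_lit 2, nat_lit 3, nat_lit 2, nat_lit 1, nat_lit 3, nat_lit 2, nat_lit 3, nat_lit 2, nat_lit 1, nat_lit 3, nat_lit 2, nat_lit 3, nat_lit 2, nat_lit 1, nat_lit 4, nat_lit 3, nat_lit 2, nat_lit 3, nat_lit 2, nat_lit 1, nat_lit 3, nat_lit 2, nat_lit 3, nat_lit 2, nat_lit 1, nat_lit 3, nat_lit 2, nat_lit 3, nat_lit 2, nat_lit 1, nat_lit 3, nat_lit 2, nat_lit 3, nat_lit 2, nat_lit 1, nat_lit 3, nat_lit 2, nat_lit 3, nat_lit 2, nat_lit 1, nat_lit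 4, nat_lit 3, nat_lit 2, nat_lit 3, nat_lit 2, nat_lit 1, nat_lit 3, nat_lit 2, nat_lit 3, nat_lit 2, nat_lit 1, nat_lit 3, nat_lit 2, nat_lit 3, nat_lit 2, nat_lit 1, nat_lit 3]
def Wt_82_84 (j : ℕ) : List ℕ := bif Nat.blt j 83 then [nat_lit 3, nat_lit 2, nat_lit 3, nat_lit 2, nat_lit 1, nat_lit 3, nat_lit 2, nat_lit 3, nat_lit 2, nat_lit 1, nat_lit 3, nat_lit 2, nat_lit 3, nat_lit 2, nat_lit 1, nat_lit 4, nat_lit 3, nat_lit 2, nat_lit 3, nat_lit 2, nat_lit 1, nat_lit 3, nat_lit 2, nat_lit 3, nat_lit 2, nat_lit 1, nat_lit 3, nat_lit 2, nat_lit 3, nat_lit 2, nat_lit 1, nat_lit 3, nat_lit 2, nat_lit 3, nat_lit 2, nat_lit 1, nat_lit 3, nat_lit 2, nat_lit 3, nat_lit 2, nat_lit 1, nat_lit 4, nat_lit 3, nat_lit 2, nat_lit 3, nat_lit 2, nat_lit 1, nat_lit 3, nat_lit 2, nat_lit 3, nat_lit 2, nat_lit 1, nat_lit 3, nat_lit 2, nat_lit 3, nat_lit 2, nat_lit 1, nat_lit 3, nat_lit 2, nat_lit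 3, nat_lit 2, nat_lit 1, nat_lit 3, nat_lit 2, nat_lit 3, nat_lit 2, nat_lit 1, nat_lit 4, nat_lit 3, nat_lit 2, nat_lit 3, nat_lit 2, nat_lit 1, nat_lit 3, nat_lit 2, nat_lit 3, nat_lit 2, nat_lit 1] else [nat_lit 0, nat_lit 5, nat_lit 0, nat_lit 5]
def Wt_80_84 (j : ℕ) : List ℕ := bif Nat.blt j 82 then (Wt_80_82 j) else (Wt_82_84 j)
def Wt_77_84 (j : ℕ) : List ℕ := bif Nat.blt j 80 then (Wt_77_80 j) else (Wt_80_84 j)
def Wt_70_84 (j : ℕ) : List ℕ := bif Nat.blt j 77 then (Wt_70_77 j) else (Wt_77_84 j)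
def Wt_56_84 (j : ℕ) : List ℕ := bif Nat.blt j 70 then (Wt_56_70 j) else (Wt_70_84 j)
def Wt_85_87 (j : ℕ) : List ℕ := bif Nat.blt j 86 then [nat_lit 1, nat_lit 6, nat_lit 1, nat_lit 6, nat_lit 1, nat_lit 6] else [nat_lit 5, nat_lit 4, nat_lit 5, nat_lit 4]
def Wt_84_87 (j : ℕ) : List ℕ := bif Nat.blt j 85 then [nat_lit 0, nat_lit 4, nat_lit 0, nat_lit 4] else (Wt_85_87 j)
def Wt_87_89 (j : ℕ) : List ℕ := bif Nat.blt j 88 then [nat_lit 2, nat_lit 3, nat_lit 0, nat_lit 2, nat_lit 3, nat_lit 2, nat_lit 3, nat_lit 2, nat_lit 3] else [nat_lit 3, nat_lit 2, nat_lit 3, nat_lit 2, nat_lit 3, nat_lit 2, nat_lit 3, nat_lit 2, nat_lit 3, nat_lit 2, nat_lit 3, nat_lit 2, nat_lit 3, nat_lit 2, nat_lit 3, nat_lit 2]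
def Wt_89_91 (j : ℕ) : List ℕ := bif Nat.blt j 90 then [nat_lit 6, nat_lit 5, nat_lit 6, nat_lit 5, nat_lit 0] else [nat_lit 5, nat_lit 6, nat_lit 5, nat_lit 0, nat_lit 6]
def Wt_87_91 (j : ℕ) : List ℕ := bif Nat.blt j 89 then (Wt_87_89 j) else (Wt_89_91 j)
def Wt_84_91 (j : ℕ) : List ℕ := bif Nat.blt j 87 then (Wt_84_87 j) else (Wt_87_91 j)
def Wt_92_94 (j : ℕ) : List ℕ := bif Nat.blt j 93 then [nat_lit 3, nat_lit 2, nat_lit 1, nat_lit 3, nat_lit 2, nat_lit 3, nat_lit 2, nat_lit 1, nat_lit 4, nat_lit 3, nat_lit 2, nat_lit 3, nat_lit 2, nat_lit 1, nat_lit 3, nat_lit 2, nat_lit 3, nat_lit 2, nat_lit 1, nat_lit 3, nat_lit 2, nat_lit 3, nat_lit 2, nat_lit 1, nat_lit 3, nat_lit 2, nat_lit 3, nat_lit 2, nat_lit 1, nat_lit 3, nat_lit 2, nat_lit 3, nat_lit 2, nat_lit 1, nat_lit 4, nat_lit 3, nat_lit 2, nat_lit 3, nat_lit 2, nat_lit 1, nat_lit 3, nat_lit 2, nat_lit 3, nat_lit 2, nat_lit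 1, nat_lit 3, nat_lit 2, nat_lit 3, nat_lit 2, nat_lit 1, nat_lit 3, nat_lit 2, nat_lit 3, nat_lit 2, nat_lit 1, nat_lit 3, nat_lit 2, nat_lit 3, nat_lit 2, nat_lit 1, nat_lit 4, nat_lit 3, nat_lit 2, nat_lit 3, nat_lit 2, nat_lit 1, nat_lit 3, nat_lit 2, nat_lit 3, nat_lit 2, nat_lit 1, nat_lit 3, nat_lit 2, nat_lit 3, nat_lit 2, nat_lit 1, nat_lit 3, nat_lit 2] else [nat_lit 63, nat_lit 2, nat_lit 63, nat_lit 2, nat_lit 63]
def Wt_91_94 (j : ℕ) : List ℕ := bif Nat.blt j 92 then [nat_lit 2, nat_lit 3, nat_lit 2, nat_lit 1, nat_lit 4, nat_lit 3, nat_lit 2, nat_lit 3, nat_lit 2, nat_lit 1, nat_lit 3, nat_lit 2, nat_lit 3, nat_lit 2, nat_lit 1, nat_lit 3, nat_lit 2, nat_lit 3, nat_lit 2, nat_lit 1, nat_lit 3, nat_lit 2, nat_lit 3, nat_lit 2, nat_lit 1, nat_lit 3, nat_lit 2, nat_lit 3, nat_lit 2, nat_lit 1, nat_lit 4, nat_lit 3, nat_lit 2, nat_lit 3, nat_lit 2, nat_lit 1, nat_lit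 3, nat_lit 2, nat_lit 3, nat_lit 2, nat_lit 1, nat_lit 3, nat_lit 2, nat_lit 3, nat_lit 2, nat_lit 1, nat_lit 3, nat_lit 2, nat_lit 3, nat_lit 2, nat_lit 1, nat_lit 3, nat_lit 2, nat_lit 3, nat_lit 2, nat_lit 1, nat_lit 4, nat_lit 3, nat_lit 2, nat_lit 3, nat_lit 2, nat_lit 1, nat_lit 3, nat_lit 2, nat_lit 3, nat_lit 2, nat_lit 1, nat_lit 3, nat_lit 2, nat_lit 3, nat_lit 2, nat_lit 1, nat_lit 3, nat_lit 2, nat_lit 3, nat_lit 2, nat_lit 1, nat_lit 3] else (Wt_92_94 j)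
def Wt_94_96 (j : ℕ) : List ℕ := bif Nat.blt j 95 then [nat_lit 2, nat_lit 4, nat_lit 2, nat_lit 4] else [nat_lit 2, nat_lit 3, nat_lit 2, nat_lit 3, nat_lit 2, nat_lit 3, nat_lit 2, nat_lit 3, nat_lit 0]
def Wt_96_98 (j : ℕ) : List ℕ := bif Nat.blt j 97 then [nat_lit 2, nat_lit 3, nat_lit 2, nat_lit 3, nat_lit 0, nat_lit 2, nat_lit 3, nat_lit 2, nat_lit 3] else [nat_lit 1, nat_lit 0, nat_lit 5, nat_lit 2, nat_lit 1, nat_lit 0, nat_lit 5, nat_lit 2, nat_lit 1, nat_lit 0, nat_lit 5, nat_lit 2, nat_lit 1, nat_lit 0, nat_lit 5, nat_lit 2, nat_lit 1, nat_lit 0, nat_lit 5, nat_lit 2]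
def Wt_94_98 (j : ℕ) : List ℕ := bif Nat.blt j 96 then (Wt_94_96 j) else (Wt_96_98 j)
def Wt_91_98 (j : ℕ) : List ℕ := bif Nat.blt j 94 then (Wt_91_94 j) else (Wt_94_98 j)
def Wt_84_98 (j : ℕ) : List ℕ := bif Nat.blt j 91 then (Wt_84_91 j) else (Wt_91_98 j)
def Wt_99_101 (j : ℕ) : List ℕ := bif Nat.blt j 100 then [nat_lit 63, nat_lit 3, nat_lit 2, nat_lit 3, nat_lit 2, nat_lit 3, nat_lit 0, nat_lit 2, nat_lit 3, nat_lit 2] else [nat_lit 4, nat_lit 3, nat_lit 4, nat_lit 3, nat_lit 4, nat_lit 3]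
def Wt_98_101 (j : ℕ) : List ℕ := bif Nat.blt j 99 then [nat_lit 3, nat_lit 2, nat_lit 3, nat_lit 2, nat_lit 1, nat_lit 3, nat_lit 2, nat_lit 3, nat_lit 2, nat_lit 1, nat_lit 3, nat_lit 2, nat_lit 3, nat_lit 2, nat_lit 1, nat_lit 3, nat_lit 2, nat_lit 3, nat_lit 2, nat_lit 1, nat_lit 3, nat_lit 2, nat_lit 3, nat_lit 2, nat_lit 1, nat_lit 4, nat_lit 3, nat_lit 2, nat_lit 3, nat_lit 2, nat_lit 1, nat_lit 3, nat_lit 2, nat_lit 3, nat_lit 2, nat_lit 1, nat_lit 3, nat_lit 2, nat_lit 3, nat_lit 2, nat_lit 1, nat_lit 3, nat_lit 2, nat_lit 3, nat_lit 2, nat_lit 1, nat_lit 3, nat_lit 2, nat_lit 3, nat_lit 2, nat_lit 1, nat_lit 4, nat_lit 3, nat_lit 2, nat_lit 3, nat_lit 2, nat_lit 1, nat_lit 3, nat_lit 2, nat_lit 3, nat_lit 2, nat_lit 1, nat_lit 3, nat_lit 2, nat_lit 3, nat_lit 2, nat_lit 1, nat_lit 3, nat_lit 2, nat_lit 3, nat_lit 2, nat_lit 1, nat_lit 3, nat_lit 2, nat_lit 3, nat_lit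 2, nat_lit 1, nat_lit 4] else (Wt_99_101 j)
def Wt_101_103 (j : ℕ) : List ℕ := bif Nat.blt j 102 then [nat_lit 6, nat_lit 5, nat_lit 6, nat_lit 5, nat_lit 6, nat_lit 5, nat_lit 6, nat_lit 5] else [nat_lit 5, nat_lit 1, nat_lit 6, nat_lit 5, nat_lit 1, nat_lit 6, nat_lit 5, nat_lit 1, nat_lit 6, nat_lit 5, nat_lit 1, nat_lit 6, nat_lit 5, nat_lit 1, nat_lit 6]
def Wt_103_105 (j : ℕ) : List ℕ := bif Nat.blt j 104 then [nat_lit 3, nat_lit 5, nat_lit 3, nat_lit 5] else [nat_lit 63, nat_lit 4, nat_lit 63, nat_lit 4]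
def Wt_101_105 (j : ℕ) : List ℕ := bif Nat.blt j 103 then (Wt_101_103 j) else (Wt_103_105 j)
def Wt_98_105 (j : ℕ) : List ℕ := bif Nat.blt j 101 then (Wt_98_101 j) else (Wt_101_105 j)
def Wt_105_107 (j : ℕ) : List ℕ := bif Nat.blt j 106 then [nat_lit 63, nat_lit 2, nat_lit 3, nat_lit 2, nat_lit 3, nat_lit 2, nat_lit 3, nat_lit 2, nat_lit 3, nat_lit 2, nat_lit 3, nat_lit 2, nat_lit 3, nat_lit 2, nat_lit 3, nat_lit 2, nat_lit 3] else [nat_lit 2, nat_lit 3, nat_lit 2, nat_lit 3, nat_lit 2, nat_lit 3, nat_lit 0, nat_lit 2, nat_lit 3]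
def Wt_107_109 (j : ℕ) : List ℕ := bif Nat.blt j 108 then [nat_lit 63, nat_lit 4, nat_lit 1, nat_lit 4, nat_lit 1] else [nat_lit 63, nat_lit 2, nat_lit 0, nat_lit 2, nat_lit 0]
def Wt_105_109 (j : ℕ) : List ℕ := bif Nat.blt j 107 then (Wt_105_107 j) else (Wt_107_109 j)
def Wt_109_111 (j : ℕ) : List ℕ := bif Nat.blt j 110 then [nat_lit 63, nat_lit 0, nat_lit 63, nat_lit 0] else [nat_lit 63, nat_lit 1, nat_lit 63, nat_lit 1, nat_lit 63]
def Wt_111_113 (j : ℕ) : List ℕ := bif Nat.blt j 112 then [nat_lit 2, nat_lit 63, nat_lit 2, nat_lit 63] else [nat_lit 1, nat_lit 63, nat_lit 1, nat_lit 63]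
def Wt_109_113 (j : ℕ) : List ℕ := bif Nat.blt j 111 then (Wt_109_111 j) else (Wt_111_113 j)
def Wt_105_113 (j : ℕ) : List ℕ := bif Nat.blt j 109 then (Wt_105_109 j) else (Wt_109_113 j)
def Wt_98_113 (j : ℕ) : List ℕ := bif Nat.blt j 105 then (Wt_98_105 j) else (Wt_105_113 j)
def Wt_84_113 (j : ℕ) : List ℕ := bif Nat.blt j 98 then (Wt_84_98 j) else (Wt_98_113 j)
def Wt_56_113 (j : ℕ) : List ℕ := bif Nat.blt j 84 then (Wt_56_84 j) else (Wt_84_113 j)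
def Wt_0_113 (j : ℕ) : List ℕ := bif Nat.blt j 56 then (Wt_0_56 j) else (Wt_56_113 j)
def Wt_114_116 (j : ℕ) : List ℕ := bif Nat.blt j 115 then [nat_lit 63, nat_lit 3, nat_lit 0, nat_lit 3, nat_lit 0] else [nat_lit 63, nat_lit 0, nat_lit 1, nat_lit 0, nat_lit 1, nat_lit 0, nat_lit 1, nat_lit 0, nat_lit 1, nat_lit 0, nat_lit 1]
def Wt_113_116 (j : ℕ) : List ℕ := bif Nat.blt j 114 then [nat_lit 2, nat_lit 3, nat_lit 2, nat_lit 3, nat_lit 2, nat_lit 0, nat_lit 3, nat_lit 2, nat_lit 3] else (Wt_114_116 j)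
def Wt_116_118 (j : ℕ) : List ℕ := bif Nat.blt j 117 then [nat_lit 63, nat_lit 3, nat_lit 2, nat_lit 3, nat_lit 0, nat_lit 2, nat_lit 3, nat_lit 2, nat_lit 3, nat_lit 2] else [nat_lit 63, nat_lit 2, nat_lit 4, nat_lit 2, nat_lit 4]
def Wt_118_120 (j : ℕ) : List ℕ := bif Nat.blt j 119 then [nat_lit 63, nat_lit 2, nat_lit 3, nat_lit 0, nat_lit 2, nat_lit 3, nat_lit 2, nat_lit 3, nat_lit 2, nat_lit 3] else [nat_lit 63, nat_lit 3, nat_lit 2, nat_lit 3, nat_lit 2, nat_lit 3, nat_lit 2, nat_lit 3, nat_lit 2, nat_lit 3, nat_lit 2, nat_lit 3, nat_lit 2, nat_lit 3, nat_lit 2, nat_lit 3, nat_lit 2]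
def Wt_116_120 (j : ℕ) : List ℕ := bif Nat.blt j 118 then (Wt_116_118 j) else (Wt_118_120 j)
def Wt_113_120 (j : ℕ) : List ℕ := bif Nat.blt j 116 then (Wt_113_116 j) else (Wt_116_120 j)
def Wt_121_123 (j : ℕ) : List ℕ := bif Nat.blt j 122 then [nat_lit 63, nat_lit 1, nat_lit 4, nat_lit 1, nat_lit 4] else [nat_lit 63, nat_lit 2, nat_lit 3, nat_lit 2, nat_lit 3, nat_lit 0, nat_lit 2, nat_lit 3, nat_lit 2, nat_lit 3]
def Wt_120_123 (j : ℕ) : List ℕ := bif Nat.blt j 121 then [nat_lit 63, nat_lit 2, nat_lit 5, nat_lit 2, nat_lit 5] else (Wt_121_123 j)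
def Wt_123_125 (j : ℕ) : List ℕ := bif Nat.blt j 124 then [nat_lit 63, nat_lit 5, nat_lit 0, nat_lit 5, nat_lit 0] else [nat_lit 3, nat_lit 2, nat_lit 1, nat_lit 4, nat_lit 3, nat_lit 2, nat_lit 3, nat_lit 2, nat_lit 1, nat_lit 3, nat_lit 2, nat_lit 3, nat_lit 2, nat_lit 1, nat_lit 3, nat_lit 2, nat_lit 3, nat_lit 2, nat_lit 1, nat_lit 3, nat_lit 2, nat_lit 3, nat_lit 2, nat_lit 1, nat_lit 3, nat_lit 2, nat_lit 3, nat_lit 2, nat_lit 1, nat_lit 4, nat_lit 3, nat_lit 2, nat_lit 3, nat_lit 2, nat_lit 1, nat_lit 3, nat_lit 2, nat_lit 3, nat_lit 2, nat_lit 1, nat_lit 3, nat_lit 2, nat_lit 3, nat_lit 2, nat_lit 1, nat_lit 3, nat_lit 2, nat_lit 3, nat_lit 2, nat_lit 1, nat_lit 3, nat_lit 2, nat_lit 3, nat_lit 2, nat_lit 1, nat_lit 4, nat_lit 3, nat_lit 2, nat_lit 3, nat_lit 2, nat_lit 1, nat_lit 3, nat_lit 2, nat_lit 3, nat_lit 2, nat_lit 1, nat_lit 3, nat_lit 2, nat_lit 3, nat_lit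 2, nat_lit 1, nat_lit 3, nat_lit 2, nat_lit 3, nat_lit 2, nat_lit 1, nat_lit 3, nat_lit 2]
def Wt_125_127 (j : ℕ) : List ℕ := bif Nat.blt j 126 then [nat_lit 63, nat_lit 5, nat_lit 2, nat_lit 5, nat_lit 2] else [nat_lit 63, nat_lit 5, nat_lit 0, nat_lit 6, nat_lit 5, nat_lit 6]
def Wt_123_127 (j : ℕ) : List ℕ := bif Nat.blt j 125 then (Wt_123_125 j) else (Wt_125_127 j)
def Wt_120_127 (j : ℕ) : List ℕ := bif Nat.blt j 123 then (Wt_120_123 j) else (Wt_123_127 j)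
def Wt_113_127 (j : ℕ) : List ℕ := bif Nat.blt j 120 then (Wt_113_120 j) else (Wt_120_127 j)
def Wt_128_130 (j : ℕ) : List ℕ := bif Nat.blt j 129 then [nat_lit 1, nat_lit 6, nat_lit 5, nat_lit 1, nat_lit 6, nat_lit 5, nat_lit 1, nat_lit 6, nat_lit 5, nat_lit 1, nat_lit 6, nat_lit 5, nat_lit 1, nat_lit 6, nat_lit 5] else [nat_lit 63, nat_lit 6, nat_lit 5, nat_lit 6, nat_lit 0, nat_lit 5]
def Wt_127_130 (j : ℕ) : List ℕ := bif Nat.blt j 128 then [nat_lit 63, nat_lit 0, nat_lit 3, nat_lit 0, nat_lit 3] else (Wt_128_130 j)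
def Wt_130_132 (j : ℕ) : List ℕ := bif Nat.blt j 131 then [nat_lit 1, nat_lit 4, nat_lit 3, nat_lit 2, nat_lit 3, nat_lit 2, nat_lit 1, nat_lit 3, nat_lit 2, nat_lit 3, nat_lit 2, nat_lit 1, nat_lit 3, nat_lit 2, nat_lit 3, nat_lit 2, nat_lit 1, nat_lit 3, nat_lit 2, nat_lit 3, nat_lit 2, nat_lit 1, nat_lit 3, nat_lit 2, nat_lit 3, nat_lit 2, nat_lit 1, nat_lit 4, nat_lit 3, nat_lit 2, nat_lit 3, nat_lit 2, nat_lit 1, nat_lit 3, nat_lit 2, nat_lit 3, nat_lit 2, nat_lit 1, nat_lit 3, nat_lit 2, nat_lit 3, nat_lit 2, nat_lit 1, nat_lit 3, nat_lit 2, nat_lit 3, nat_lit 2, nat_lit 1, nat_lit 3, nat_lit 2, nat_lit 3, nat_lit 2, nat_lit 1, nat_lit 4, nat_lit 3, nat_lit 2, nat_lit 3, nat_lit 2, nat_lit 1, nat_lit 3, nat_lit 2, nat_lit 3, nat_lit 2, nat_lit 1, nat_lit 3, nat_lit 2, nat_lit 3, nat_lit 2, nat_lit 1, nat_lit 3, nat_lit 2, nat_lit 3, nat_lit 2, nat_lit 1, nat_lit 3, nat_lit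 2, nat_lit 3, nat_lit 2] else [nat_lit 63, nat_lit 4, nat_lit 2, nat_lit 4, nat_lit 2]
def Wt_132_134 (j : ℕ) : List ℕ := bif Nat.blt j 133 then [nat_lit 0, nat_lit 5, nat_lit 2, nat_lit 1, nat_lit 0, nat_lit 5, nat_lit 2, nat_lit 1, nat_lit 0, nat_lit 5, nat_lit 2, nat_lit 1, nat_lit 0, nat_lit 5, nat_lit 2, nat_lit 1, nat_lit 0, nat_lit 5, nat_lit 2, nat_lit 1] else [nat_lit 2, nat_lit 1, nat_lit 3, nat_lit 2, nat_lit 3, nat_lit 2, nat_lit 1, nat_lit 3, nat_lit 2, nat_lit 3, nat_lit 2, nat_lit 1, nat_lit 4, nat_lit 3, nat_lit 2, nat_lit 3, nat_lit 2, nat_lit 1, nat_lit 3, nat_lit 2, nat_lit 3, nat_lit 2, nat_lit 1, nat_lit 3, nat_lit 2, nat_lit 3, nat_lit 2, nat_lit 1, nat_lit 3, nat_lit 2, nat_lit 3, nat_lit 2, nat_lit 1, nat_lit 3, nat_lit 2, nat_lit 3, nat_lit 2, nat_lit 1, nat_lit 4, nat_lit 3, nat_lit 2, nat_lit 3, nat_lit 2, nat_lit 1, nat_lit 3, nat_lit 2, nat_lit 3,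 nat_lit 2, nat_lit 1, nat_lit 3, nat_lit 2, nat_lit 3, nat_lit 2, nat_lit 1, nat_lit 3, nat_lit 2, nat_lit 3, nat_lit 2, nat_lit 1, nat_lit 3, nat_lit 2, nat_lit 3, nat_lit 2, nat_lit 1, nat_lit 4, nat_lit 3, nat_lit 2, nat_lit 3, nat_lit 2, nat_lit 1, nat_lit 3, nat_lit 2, nat_lit 3, nat_lit 2, nat_lit 1, nat_lit 3, nat_lit 2, nat_lit 3]
def Wt_130_134 (j : ℕ) : List ℕ := bif Nat.blt j 132 then (Wt_130_132 j) else (Wt_132_134 j)
def Wt_127_134 (j : ℕ) : List ℕ := bif Nat.blt j 130 then (Wt_127_130 j) else (Wt_130_134 j)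
def Wt_135_137 (j : ℕ) : List ℕ := bif Nat.blt j 136 then [nat_lit 2, nat_lit 3, nat_lit 2, nat_lit 3, nat_lit 2, nat_lit 3, nat_lit 2, nat_lit 0, nat_lit 3] else [nat_lit 63, nat_lit 2, nat_lit 3, nat_lit 2, nat_lit 3, nat_lit 2, nat_lit 3, nat_lit 2, nat_lit 3, nat_lit 0]
def Wt_134_137 (j : ℕ) : List ℕ := bif Nat.blt j 135 then [nat_lit 63, nat_lit 3, nat_lit 2, nat_lit 3, nat_lit 2, nat_lit 3, nat_lit 2, nat_lit 3, nat_lit 0, nat_lit 2] else (Wt_135_137 j)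
def Wt_137_139 (j : ℕ) : List ℕ := bif Nat.blt j 138 then [nat_lit 63, nat_lit 3, nat_lit 4, nat_lit 3, nat_lit 4, nat_lit 3, nat_lit 4] else [nat_lit 2, nat_lit 3, nat_lit 2, nat_lit 1, nat_lit 3, nat_lit 2, nat_lit 3, nat_lit 2, nat_lit 1, nat_lit 3, nat_lit 2, nat_lit 3, nat_lit 2, nat_lit 1, nat_lit 4, nat_lit 3, nat_lit 2, nat_lit 3, nat_lit 2, nat_lit 1, nat_lit 3, nat_lit 2, nat_lit 3, nat_lit 2, nat_lit 1, nat_lit 3, nat_lit 2, nat_lit 3, nat_lit 2, nat_lit 1, nat_lit 3, nat_lit 2, nat_lit 3, nat_lit 2, nat_lit 1, nat_lit 3, nat_lit 2, nat_lit 3, nat_lit 2, nat_lit 1, nat_lit 4, nat_lit 3, nat_lit 2, nat_lit 3, nat_lit 2, nat_lit 1, nat_lit 3, nat_lit 2, nat_lit 3, nat_lit 2, nat_lit 1, nat_lit 3, nat_lit 2, nat_lit 3, nat_lit 2, nat_lit 1, nat_lit 3, nat_lit 2, nat_lit 3, nat_lit 2, nat_lit 1, nat_lit 3, nat_lit 2, nat_lit 3, nat_lit 2, nat_lit 1, nat_lit 4, nat_lit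 3, nat_lit 2, nat_lit 3, nat_lit 2, nat_lit 1, nat_lit 3, nat_lit 2, nat_lit 3, nat_lit 2, nat_lit 1, nat_lit 3]
def Wt_139_141 (j : ℕ) : List ℕ := bif Nat.blt j 140 then [nat_lit 3, nat_lit 0, nat_lit 2, nat_lit 3, nat_lit 2, nat_lit 3, nat_lit 2, nat_lit 3, nat_lit 2] else [nat_lit 63, nat_lit 3, nat_lit 0, nat_lit 2, nat_lit 3, nat_lit 2, nat_lit 3, nat_lit 2, nat_lit 3, nat_lit 2]
def Wt_137_141 (j : ℕ) : List ℕ := bif Nat.blt j 139 then (Wt_137_139 j) else (Wt_139_141 j)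
def Wt_134_141 (j : ℕ) : List ℕ := bif Nat.blt j 137 then (Wt_134_137 j) else (Wt_137_141 j)
def Wt_127_141 (j : ℕ) : List ℕ := bif Nat.blt j 134 then (Wt_127_134 j) else (Wt_134_141 j)
def Wt_113_141 (j : ℕ) : List ℕ := bif Nat.blt j 127 then (Wt_113_127 j) else (Wt_127_141 j)
def Wt_142_144 (j : ℕ) : List ℕ := bif Nat.blt j 143 then [nat_lit 1, nat_lit 3, nat_lit 2, nat_lit 3, nat_lit 2, nat_lit 1, nat_lit 3, nat_lit 2, nat_lit 3, nat_lit 2, nat_lit 1, nat_lit 3, nat_lit 2, nat_lit 3, nat_lit 2, nat_lit 1, nat_lit 3, nat_lit 2, nat_lit 3, nat_lit 2, nat_lit 1, nat_lit 4, nat_lit 3, nat_lit 2, nat_lit 3, nat_lit 2, nat_lit 1, nat_lit 3, nat_lit 2, nat_lit 3, nat_lit 2, nat_lit 1, nat_lit 3, nat_lit 2, nat_lit 3, nat_lit 2, nat_lit 1, nat_lit 3, nat_lit 2, nat_lit 3, nat_lit 2, nat_lit 1, nat_lit 3, nat_lit 2, nat_lit 3, nat_lit 2, nat_lit 1, nat_lit 4, nat_lit 3, nat_lit 2,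 nat_lit 3, nat_lit 2, nat_lit 1, nat_lit 3, nat_lit 2, nat_lit 3, nat_lit 2, nat_lit 1, nat_lit 3, nat_lit 2, nat_lit 3, nat_lit 2, nat_lit 1, nat_lit 3, nat_lit 2, nat_lit 3, nat_lit 2, nat_lit 1, nat_lit 3, nat_lit 2, nat_lit 3, nat_lit 2, nat_lit 1, nat_lit 4, nat_lit 3, nat_lit 2, nat_lit 3, nat_lit 2] else [nat_lit 2, nat_lit 1, nat_lit 3, nat_lit 2, nat_lit 3, nat_lit 2, nat_lit 1, nat_lit 4, nat_lit 3, nat_lit 2, nat_lit 3, nat_lit 2, nat_lit 1, nat_lit 3, nat_lit 2, nat_lit 3, nat_lit 2, nat_lit 1, nat_lit 3, nat_lit 2, nat_lit 3, nat_lit 2, nat_lit 1, nat_lit 3, nat_lit 2, nat_lit 3, nat_lit 2, nat_lit 1, nat_lit 3, nat_lit 2, nat_lit 3, nat_lit 2, nat_lit 1, nat_lit 4, nat_lit 3, nat_lit 2, nat_lit 3, nat_lit 2, nat_lit 1, nat_lit 3, nat_lit 2, nat_lit 3, nat_lit 2, nat_lit 1, nat_lit 3, nat_lit 2, nat_lit 3, nat_lit 2, nat_lit 1, nat_lit 3, nat_lit 2, nat_lit 3, nat_lit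 2, nat_lit 1, nat_lit 3, nat_lit 2, nat_lit 3, nat_lit 2, nat_lit 1, nat_lit 4, nat_lit 3, nat_lit 2, nat_lit 3, nat_lit 2, nat_lit 1, nat_lit 3, nat_lit 2, nat_lit 3, nat_lit 2, nat_lit 1, nat_lit 3, nat_lit 2, nat_lit 3, nat_lit 2, nat_lit 1, nat_lit 3, nat_lit 2, nat_lit 3]
def Wt_141_144 (j : ℕ) : List ℕ := bif Nat.blt j 142 then [nat_lit 3, nat_lit 2, nat_lit 3, nat_lit 2, nat_lit 1, nat_lit 3, nat_lit 2, nat_lit 3, nat_lit 2, nat_lit 1, nat_lit 3, nat_lit 2, nat_lit 3, nat_lit 2, nat_lit 1, nat_lit 3, nat_lit 2, nat_lit 3, nat_lit 2, nat_lit 1, nat_lit 4, nat_lit 3, nat_lit 2, nat_lit 3, nat_lit 2, nat_lit 1, nat_lit 3, nat_lit 2, nat_lit 3, nat_lit 2, nat_lit 1, nat_lit 3, nat_lit 2, nat_lit 3, nat_lit 2, nat_lit 1, nat_lit 3, nat_lit 2, nat_lit 3, nat_lit 2, nat_lit 1, nat_lit 3, nat_lit 2, nat_lit 3, nat_lit 2, nat_lit 1, nat_lit 4, nat_lit 3, nat_lit 2, nat_lit 3,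 nat_lit 2, nat_lit 1, nat_lit 3, nat_lit 2, nat_lit 3, nat_lit 2, nat_lit 1, nat_lit 3, nat_lit 2, nat_lit 3, nat_lit 2, nat_lit 1, nat_lit 3, nat_lit 2, nat_lit 3, nat_lit 2, nat_lit 1, nat_lit 3, nat_lit 2, nat_lit 3, nat_lit 2, nat_lit 1, nat_lit 4, nat_lit 3, nat_lit 2, nat_lit 3, nat_lit 2, nat_lit 1] else (Wt_142_144 j)
def Wt_144_146 (j : ℕ) : List ℕ := bif Nat.blt j 145 then [nat_lit 63, nat_lit 3, nat_lit 2, nat_lit 3, nat_lit 2, nat_lit 0, nat_lit 3, nat_lit 2, nat_lit 3, nat_lit 2] else [nat_lit 63, nat_lit 2, nat_lit 3, nat_lit 2, nat_lit 0, nat_lit 3, nat_lit 2, nat_lit 3, nat_lit 2, nat_lit 3]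
def Wt_146_148 (j : ℕ) : List ℕ := bif Nat.blt j 147 then [nat_lit 4, nat_lit 1, nat_lit 2, nat_lit 3, nat_lit 2, nat_lit 3, nat_lit 1, nat_lit 2, nat_lit 3, nat_lit 2, nat_lit 3, nat_lit 1, nat_lit 2, nat_lit 3, nat_lit 2, nat_lit 3, nat_lit 1, nat_lit 2, nat_lit 3, nat_lit 2, nat_lit 3, nat_lit 1, nat_lit 2, nat_lit 3, nat_lit 2, nat_lit 3, nat_lit 4, nat_lit 1, nat_lit 2, nat_lit 3, nat_lit 2, nat_lit 3, nat_lit 1, nat_lit 2, nat_lit 3, nat_lit 2, nat_lit 3, nat_lit 1, nat_lit 2, nat_lit 3, nat_lit 2, nat_lit 3, nat_lit 1, nat_lit 2, nat_lit 3, nat_lit 2, nat_lit 3, nat_lit 1, nat_lit 2, nat_lit 3, nat_lit 2, nat_lit 3, nat_lit 4, nat_lit 1, nat_lit 2, nat_lit 3, nat_lit 2, nat_lit 3, nat_lit 1, nat_lit 2, nat_lit 3, nat_lit 2, nat_lit 3, nat_lit 1, nat_lit 2, nat_lit 3, nat_lit 2, nat_lit 3, nat_lit 1, nat_lit 2, nat_lit 3, nat_lit 2, nat_lit 3, nat_lit 1, nat_lit 2, nat_lit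 3, nat_lit 2, nat_lit 3] else [nat_lit 63, nat_lit 0, nat_lit 4, nat_lit 0, nat_lit 4]
def Wt_144_148 (j : ℕ) : List ℕ := bif Nat.blt j 146 then (Wt_144_146 j) else (Wt_146_148 j)
def Wt_141_148 (j : ℕ) : List ℕ := bif Nat.blt j 144 then (Wt_141_144 j) else (Wt_144_148 j)
def Wt_149_151 (j : ℕ) : List ℕ := bif Nat.blt j 150 then [nat_lit 5, nat_lit 6, nat_lit 5, nat_lit 6, nat_lit 5, nat_lit 6, nat_lit 5, nat_lit 6] else [nat_lit 1, nat_lit 3, nat_lit 2, nat_lit 3, nat_lit 2, nat_lit 1, nat_lit 3, nat_lit 2, nat_lit 3, nat_lit 2, nat_lit 1, nat_lit 3, nat_lit 2, nat_lit 3, nat_lit 2, nat_lit 1, nat_lit 4, nat_lit 3, nat_lit 2, nat_lit 3, nat_lit 2, nat_lit 1, nat_lit 3, nat_lit 2, nat_lit 3, nat_lit 2, nat_lit 1, nat_lit 3, nat_lit 2, nat_lit 3, nat_lit 2, nat_lit 1, nat_lit 3, nat_lit 2, nat_lit 3, nat_lit 2, nat_lit 1, nat_lit 3, nat_lit 2, nat_lit 3, nat_lit 2, nat_lit 1,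 nat_lit 4, nat_lit 3, nat_lit 2, nat_lit 3, nat_lit 2, nat_lit 1, nat_lit 3, nat_lit 2, nat_lit 3, nat_lit 2, nat_lit 1, nat_lit 3, nat_lit 2, nat_lit 3, nat_lit 2, nat_lit 1, nat_lit 3, nat_lit 2, nat_lit 3, nat_lit 2, nat_lit 1, nat_lit 3, nat_lit 2, nat_lit 3, nat_lit 2, nat_lit 1, nat_lit 4, nat_lit 3, nat_lit 2, nat_lit 3, nat_lit 2, nat_lit 1, nat_lit 3, nat_lit 2, nat_lit 3, nat_lit 2]
def Wt_148_151 (j : ℕ) : List ℕ := bif Nat.blt j 149 then [nat_lit 3, nat_lit 2, nat_lit 3, nat_lit 2, nat_lit 3, nat_lit 2, nat_lit 3, nat_lit 0, nat_lit 2] else (Wt_149_151 j)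
def Wt_151_153 (j : ℕ) : List ℕ := bif Nat.blt j 152 then [nat_lit 5, nat_lit 0, nat_lit 6, nat_lit 5, nat_lit 6] else [nat_lit 3, nat_lit 2, nat_lit 3, nat_lit 2, nat_lit 3, nat_lit 0, nat_lit 2, nat_lit 3, nat_lit 2]
def Wt_153_155 (j : ℕ) : List ℕ := bif Nat.blt j 154 then [nat_lit 63, nat_lit 6, nat_lit 5, nat_lit 6, nat_lit 5, nat_lit 0] else [nat_lit 63, nat_lit 6, nat_lit 3, nat_lit 6, nat_lit 3]
def Wt_151_155 (j : ℕ) : List ℕ := bif Nat.blt j 153 then (Wt_151_153 j) else (Wt_153_155 j)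
def Wt_148_155 (j : ℕ) : List ℕ := bif Nat.blt j 151 then (Wt_148_151 j) else (Wt_151_155 j)
def Wt_141_155 (j : ℕ) : List ℕ := bif Nat.blt j 148 then (Wt_141_148 j) else (Wt_148_155 j)
def Wt_156_158 (j : ℕ) : List ℕ := bif Nat.blt j 157 then [nat_lit 63, nat_lit 4, nat_lit 0, nat_lit 4, nat_lit 0] else [nat_lit 63, nat_lit 1, nat_lit 3, nat_lit 2, nat_lit 3, nat_lit 2, nat_lit 1, nat_lit 3, nat_lit 2, nat_lit 3, nat_lit 2, nat_lit 1, nat_lit 3, nat_lit 2, nat_lit 3, nat_lit 2, nat_lit 1, nat_lit 4, nat_lit 3, nat_lit 2, nat_lit 3, nat_lit 2, nat_lit 1, nat_lit 3, nat_lit 2, nat_lit 3, nat_lit 2, nat_lit 1, nat_lit 3, nat_lit 2, nat_lit 3, nat_lit 2, nat_lit 1, nat_lit 3, nat_lit 2, nat_lit 3, nat_lit 2, nat_lit 1, nat_lit 3, nat_lit 2, nat_lit 3, nat_lit 2, nat_lit 1, nat_lit 4, nat_lit 3, nat_lit 2, nat_lit 3, nat_lit 2, nat_lit 1, nat_lit 3, nat_lit 2, nat_lit 3, nat_lit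 2, nat_lit 1, nat_lit 3, nat_lit 2, nat_lit 3, nat_lit 2, nat_lit 1, nat_lit 3, nat_lit 2, nat_lit 3, nat_lit 2, nat_lit 1, nat_lit 3, nat_lit 2, nat_lit 3, nat_lit 2, nat_lit 1, nat_lit 4, nat_lit 3, nat_lit 2, nat_lit 3, nat_lit 2, nat_lit 1, nat_lit 3, nat_lit 2, nat_lit 3, nat_lit 2]
def Wt_155_158 (j : ℕ) : List ℕ := bif Nat.blt j 156 then [nat_lit 2, nat_lit 3, nat_lit 2, nat_lit 0, nat_lit 3, nat_lit 2, nat_lit 3, nat_lit 2, nat_lit 3] else (Wt_156_158 j)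
def Wt_158_160 (j : ℕ) : List ℕ := bif Nat.blt j 159 then [nat_lit 63, nat_lit 3, nat_lit 2, nat_lit 3, nat_lit 2, nat_lit 1, nat_lit 3, nat_lit 2, nat_lit 3, nat_lit 2, nat_lit 1, nat_lit 3, nat_lit 2, nat_lit 3, nat_lit 2, nat_lit 1, nat_lit 3, nat_lit 2, nat_lit 3, nat_lit 2, nat_lit 1, nat_lit 4, nat_lit 3, nat_lit 2, nat_lit 3, nat_lit 2, nat_lit 1, nat_lit 3, nat_lit 2, nat_lit 3, nat_lit 2, nat_lit 1, nat_lit 3, nat_lit 2, nat_lit 3, nat_lit 2, nat_lit 1, nat_lit 3, nat_lit 2, nat_lit 3, nat_lit 2, nat_lit 1, nat_lit 3, nat_lit 2, nat_lit 3, nat_lit 2, nat_lit 1, nat_lit 4, nat_lit 3, nat_lit 2, nat_lit 3, nat_lit 2, nat_lit 1, nat_lit 3, nat_lit 2, nat_lit 3, nat_lit 2, nat_lit 1, nat_lit 3, nat_lit 2, nat_lit 3, nat_lit 2, nat_lit 1, nat_lit 3, nat_lit 2, nat_lit 3, nat_lit 2, nat_lit 1, nat_lit 3, nat_lit 2, nat_lit 3, nat_lit 2, nat_lit 1, nat_lit 4, nat_lit 3, nat_lit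 2, nat_lit 3, nat_lit 2, nat_lit 1] else [nat_lit 63, nat_lit 3, nat_lit 2, nat_lit 3, nat_lit 1, nat_lit 2, nat_lit 3, nat_lit 2, nat_lit 3, nat_lit 1, nat_lit 2, nat_lit 3, nat_lit 2, nat_lit 3, nat_lit 1, nat_lit 2, nat_lit 3, nat_lit 2, nat_lit 3, nat_lit 4, nat_lit 1, nat_lit 2, nat_lit 3, nat_lit 2, nat_lit 3, nat_lit 1, nat_lit 2, nat_lit 3, nat_lit 2, nat_lit 3, nat_lit 1, nat_lit 2, nat_lit 3, nat_lit 2, nat_lit 3, nat_lit 1, nat_lit 2, nat_lit 3, nat_lit 2, nat_lit 3, nat_lit 1, nat_lit 2, nat_lit 3, nat_lit 2, nat_lit 3, nat_lit 4, nat_lit 1, nat_lit 2, nat_lit 3, nat_lit 2, nat_lit 3, nat_lit 1, nat_lit 2, nat_lit 3, nat_lit 2, nat_lit 3, nat_lit 1, nat_lit 2, nat_lit 3, nat_lit 2, nat_lit 3, nat_lit 1, nat_lit 2, nat_lit 3, nat_lit 2, nat_lit 3, nat_lit 1, nat_lit 2, nat_lit 3, nat_lit 2, nat_lit 3, nat_lit 4, nat_lit 1, nat_lit 2, nat_lit 3, nat_lit 2, nat_lit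 3, nat_lit 1, nat_lit 2]
def Wt_160_162 (j : ℕ) : List ℕ := bif Nat.blt j 161 then [nat_lit 3, nat_lit 2, nat_lit 3, nat_lit 2, nat_lit 3, nat_lit 2, nat_lit 3, nat_lit 2, nat_lit 0] else [nat_lit 63, nat_lit 3, nat_lit 5, nat_lit 3, nat_lit 5]
def Wt_158_162 (j : ℕ) : List ℕ := bif Nat.blt j 160 then (Wt_158_160 j) else (Wt_160_162 j)
def Wt_155_162 (j : ℕ) : List ℕ := bif Nat.blt j 158 then (Wt_155_158 j) else (Wt_158_162 j)
def Wt_163_165 (j : ℕ) : List ℕ := bif Nat.blt j 164 then [nat_lit 63, nat_lit 1, nat_lit 0, nat_lit 1, nat_lit 0, nat_lit 1, nat_lit 0, nat_lit 1, nat_lit 0, nat_lit 1, nat_lit 0] else [nat_lit 63, nat_lit 6, nat_lit 5, nat_lit 6, nat_lit 5, nat_lit 6, nat_lit 5, nat_lit 6, nat_lit 5]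
def Wt_162_165 (j : ℕ) : List ℕ := bif Nat.blt j 163 then [nat_lit 2, nat_lit 5, nat_lit 0, nat_lit 1, nat_lit 2, nat_lit 5, nat_lit 0, nat_lit 1, nat_lit 2, nat_lit 5, nat_lit 0, nat_lit 1, nat_lit 2, nat_lit 5, nat_lit 0, nat_lit 1, nat_lit 2, nat_lit 5, nat_lit 0, nat_lit 1] else (Wt_163_165 j)
def Wt_165_167 (j : ℕ) : List ℕ := bif Nat.blt j 166 then [nat_lit 63, nat_lit 6, nat_lit 63, nat_lit 6, nat_lit 63] else [nat_lit 63, nat_lit 63, nat_lit 6, nat_lit 63, nat_lit 6]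
def Wt_167_169 (j : ℕ) : List ℕ := bif Nat.blt j 168 then [nat_lit 6, nat_lit 63, nat_lit 6, nat_lit 63] else [nat_lit 63, nat_lit 3, nat_lit 63, nat_lit 3, nat_lit 63]
def Wt_165_169 (j : ℕ) : List ℕ := bif Nat.blt j 167 then (Wt_165_167 j) else (Wt_167_169 j)
def Wt_162_169 (j : ℕ) : List ℕ := bif Nat.blt j 165 then (Wt_162_165 j) else (Wt_165_169 j)
def Wt_155_169 (j : ℕ) : List ℕ := bif Nat.blt j 162 then (Wt_155_162 j) else (Wt_162_169 j)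
def Wt_141_169 (j : ℕ) : List ℕ := bif Nat.blt j 155 then (Wt_141_155 j) else (Wt_155_169 j)
def Wt_113_169 (j : ℕ) : List ℕ := bif Nat.blt j 141 then (Wt_113_141 j) else (Wt_141_169 j)
def Wt_170_172 (j : ℕ) : List ℕ := bif Nat.blt j 171 then [nat_lit 63, nat_lit 5, nat_lit 63, nat_lit 5, nat_lit 63] else [nat_lit 63, nat_lit 63, nat_lit 4, nat_lit 63, nat_lit 4]
def Wt_169_172 (j : ℕ) : List ℕ := bif Nat.blt j 170 then [nat_lit 63, nat_lit 63, nat_lit 2, nat_lit 63, nat_lit 2] else (Wt_170_172 j)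
def Wt_172_174 (j : ℕ) : List ℕ := bif Nat.blt j 173 then [nat_lit 63, nat_lit 63, nat_lit 5, nat_lit 63, nat_lit 5] else [nat_lit 63, nat_lit 63, nat_lit 1, nat_lit 63, nat_lit 1]
def Wt_174_176 (j : ℕ) : List ℕ := bif Nat.blt j 175 then [nat_lit 63, nat_lit 63, nat_lit 5, nat_lit 63, nat_lit 5, nat_lit 63] else [nat_lit 63, nat_lit 63, nat_lit 0, nat_lit 63, nat_lit 0]
def Wt_172_176 (j : ℕ) : List ℕ := bif Nat.blt j 174 then (Wt_172_174 j) else (Wt_174_176 j)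
def Wt_169_176 (j : ℕ) : List ℕ := bif Nat.blt j 172 then (Wt_169_172 j) else (Wt_172_176 j)
def Wt_177_179 (j : ℕ) : List ℕ := bif Nat.blt j 178 then [nat_lit 63, nat_lit 63, nat_lit 63, nat_lit 63] else [nat_lit 63, nat_lit 4, nat_lit 63, nat_lit 4, nat_lit 63]
def Wt_176_179 (j : ℕ) : List ℕ := bif Nat.blt j 177 then [nat_lit 63, nat_lit 63, nat_lit 3, nat_lit 63, nat_lit 3] else (Wt_177_179 j)
def Wt_179_181 (j : ℕ) : List ℕ := bif Nat.blt j 180 then [nat_lit 63, nat_lit 2, nat_lit 3, nat_lit 2, nat_lit 3, nat_lit 1, nat_lit 2, nat_lit 3, nat_lit 2, nat_lit 3, nat_lit 1, nat_lit 2, nat_lit 3, nat_lit 2, nat_lit 3, nat_lit 4, nat_lit 1, nat_lit 2, nat_lit 3, nat_lit 2, nat_lit 3, nat_lit 1, nat_lit 2, nat_lit 3, nat_lit 2, nat_lit 3, nat_lit 1, nat_lit 2, nat_lit 3, nat_lit 2, nat_lit 3, nat_lit 1, nat_lit 2, nat_lit 3, nat_lit 2, nat_lit 3, nat_lit 1, nat_lit 2, nat_lit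 3, nat_lit 2, nat_lit 3, nat_lit 4, nat_lit 1, nat_lit 2, nat_lit 3, nat_lit 2, nat_lit 3, nat_lit 1, nat_lit 2, nat_lit 3, nat_lit 2, nat_lit 3, nat_lit 1, nat_lit 2, nat_lit 3, nat_lit 2, nat_lit 3, nat_lit 1, nat_lit 2, nat_lit 3, nat_lit 2, nat_lit 3, nat_lit 1, nat_lit 2, nat_lit 3, nat_lit 2, nat_lit 3, nat_lit 4, nat_lit 1, nat_lit 2, nat_lit 3, nat_lit 2, nat_lit 3, nat_lit 1, nat_lit 2, nat_lit 3, nat_lit 2, nat_lit 3, nat_lit 1] else [nat_lit 63, nat_lit 1, nat_lit 2, nat_lit 3, nat_lit 2, nat_lit 3, nat_lit 1, nat_lit 2, nat_lit 3, nat_lit 2, nat_lit 3, nat_lit 4, nat_lit 1, nat_lit 2, nat_lit 3, nat_lit 2, nat_lit 3, nat_lit 1, nat_lit 2, nat_lit 3, nat_lit 2, nat_lit 3, nat_lit 1, nat_lit 2, nat_lit 3, nat_lit 2, nat_lit 3, nat_lit 1, nat_lit 2, nat_lit 3, nat_lit 2, nat_lit 3, nat_lit 1, nat_lit 2, nat_lit 3, nat_lit 2, nat_lit 3, nat_lit 4, nat_lit 1, nat_lit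 2, nat_lit 3, nat_lit 2, nat_lit 3, nat_lit 1, nat_lit 2, nat_lit 3, nat_lit 2, nat_lit 3, nat_lit 1, nat_lit 2, nat_lit 3, nat_lit 2, nat_lit 3, nat_lit 1, nat_lit 2, nat_lit 3, nat_lit 2, nat_lit 3, nat_lit 1, nat_lit 2, nat_lit 3, nat_lit 2, nat_lit 3, nat_lit 4, nat_lit 1, nat_lit 2, nat_lit 3, nat_lit 2, nat_lit 3, nat_lit 1, nat_lit 2, nat_lit 3, nat_lit 2, nat_lit 3, nat_lit 1, nat_lit 2, nat_lit 3, nat_lit 2, nat_lit 3]
def Wt_181_183 (j : ℕ) : List ℕ := bif Nat.blt j 182 then [nat_lit 1, nat_lit 2, nat_lit 3, nat_lit 2, nat_lit 3, nat_lit 1, nat_lit 2, nat_lit 3, nat_lit 2, nat_lit 3, nat_lit 4, nat_lit 1, nat_lit 2, nat_lit 3, nat_lit 2, nat_lit 3, nat_lit 1, nat_lit 2, nat_lit 3, nat_lit 2, nat_lit 3, nat_lit 1, nat_lit 2, nat_lit 3, nat_lit 2, nat_lit 3, nat_lit 1, nat_lit 2, nat_lit 3, nat_lit 2, nat_lit 3, nat_lit 1, nat_lit 2, nat_lit 3, nat_lit 2, nat_lit 3,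 nat_lit 4, nat_lit 1, nat_lit 2, nat_lit 3, nat_lit 2, nat_lit 3, nat_lit 1, nat_lit 2, nat_lit 3, nat_lit 2, nat_lit 3, nat_lit 1, nat_lit 2, nat_lit 3, nat_lit 2, nat_lit 3, nat_lit 1, nat_lit 2, nat_lit 3, nat_lit 2, nat_lit 3, nat_lit 1, nat_lit 2, nat_lit 3, nat_lit 2, nat_lit 3, nat_lit 4, nat_lit 1, nat_lit 2, nat_lit 3, nat_lit 2, nat_lit 3, nat_lit 1, nat_lit 2, nat_lit 3, nat_lit 2, nat_lit 3, nat_lit 1, nat_lit 2, nat_lit 3, nat_lit 2, nat_lit 3] else [nat_lit 63, nat_lit 4, nat_lit 3, nat_lit 4, nat_lit 3, nat_lit 4, nat_lit 3]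
def Wt_179_183 (j : ℕ) : List ℕ := bif Nat.blt j 181 then (Wt_179_181 j) else (Wt_181_183 j)
def Wt_176_183 (j : ℕ) : List ℕ := bif Nat.blt j 179 then (Wt_176_179 j) else (Wt_179_183 j)
def Wt_169_183 (j : ℕ) : List ℕ := bif Nat.blt j 176 then (Wt_169_176 j) else (Wt_176_183 j)
def Wt_184_186 (j : ℕ) : List ℕ := bif Nat.blt j 185 then [nat_lit 1, nat_lit 2, nat_lit 3, nat_lit 2, nat_lit 3, nat_lit 4, nat_lit 1, nat_lit 2, nat_lit 3, nat_lit 2, nat_lit 3, nat_lit 1, nat_lit 2, nat_lit 3, nat_lit 2, nat_lit 3, nat_lit 1, nat_lit 2, nat_lit 3, nat_lit 2, nat_lit 3, nat_lit 1, nat_lit 2, nat_lit 3, nat_lit 2, nat_lit 3, nat_lit 1, nat_lit 2, nat_lit 3, nat_lit 2, nat_lit 3, nat_lit 4, nat_lit 1, nat_lit 2, nat_lit 3, nat_lit 2, nat_lit 3, nat_lit 1, nat_lit 2, nat_lit 3, nat_lit 2, nat_lit 3, nat_lit 1, nat_lit 2, nat_lit 3, nat_lit 2, nat_lit 3, nat_lit 1, nat_lit 2, nat_lit 3,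 nat_lit 2, nat_lit 3, nat_lit 1, nat_lit 2, nat_lit 3, nat_lit 2, nat_lit 3, nat_lit 4, nat_lit 1, nat_lit 2, nat_lit 3, nat_lit 2, nat_lit 3, nat_lit 1, nat_lit 2, nat_lit 3, nat_lit 2, nat_lit 3, nat_lit 1, nat_lit 2, nat_lit 3, nat_lit 2, nat_lit 3, nat_lit 1, nat_lit 2, nat_lit 3, nat_lit 2, nat_lit 3] else [nat_lit 63, nat_lit 2, nat_lit 3, nat_lit 1, nat_lit 2, nat_lit 3, nat_lit 2, nat_lit 3, nat_lit 1, nat_lit 2, nat_lit 3, nat_lit 2, nat_lit 3, nat_lit 1, nat_lit 2, nat_lit 3, nat_lit 2, nat_lit 3, nat_lit 1, nat_lit 2, nat_lit 3, nat_lit 2, nat_lit 3, nat_lit 4, nat_lit 1, nat_lit 2, nat_lit 3, nat_lit 2, nat_lit 3, nat_lit 1, nat_lit 2, nat_lit 3, nat_lit 2, nat_lit 3, nat_lit 1, nat_lit 2, nat_lit 3, nat_lit 2, nat_lit 3, nat_lit 1, nat_lit 2, nat_lit 3, nat_lit 2, nat_lit 3, nat_lit 1, nat_lit 2, nat_lit 3, nat_lit 2, nat_lit 3, nat_lit 4, nat_lit 1, nat_lit 2,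 nat_lit 3, nat_lit 2, nat_lit 3, nat_lit 1, nat_lit 2, nat_lit 3, nat_lit 2, nat_lit 3, nat_lit 1, nat_lit 2, nat_lit 3, nat_lit 2, nat_lit 3, nat_lit 1, nat_lit 2, nat_lit 3, nat_lit 2, nat_lit 3, nat_lit 1, nat_lit 2, nat_lit 3, nat_lit 2, nat_lit 3, nat_lit 4, nat_lit 1, nat_lit 2, nat_lit 3]
def Wt_183_186 (j : ℕ) : List ℕ := bif Nat.blt j 184 then [nat_lit 63, nat_lit 1, nat_lit 2, nat_lit 3, nat_lit 2, nat_lit 3, nat_lit 1, nat_lit 2, nat_lit 3, nat_lit 2, nat_lit 3, nat_lit 1, nat_lit 2, nat_lit 3, nat_lit 2, nat_lit 3, nat_lit 4, nat_lit 1, nat_lit 2, nat_lit 3, nat_lit 2, nat_lit 3, nat_lit 1, nat_lit 2, nat_lit 3, nat_lit 2, nat_lit 3, nat_lit 1, nat_lit 2, nat_lit 3, nat_lit 2, nat_lit 3, nat_lit 1, nat_lit 2, nat_lit 3, nat_lit 2, nat_lit 3, nat_lit 1, nat_lit 2, nat_lit 3, nat_lit 2, nat_lit 3, nat_lit 4, nat_lit 1, nat_lit 2, nat_lit 3, nat_lit 2, nat_lit 3, nat_lit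 1, nat_lit 2, nat_lit 3, nat_lit 2, nat_lit 3, nat_lit 1, nat_lit 2, nat_lit 3, nat_lit 2, nat_lit 3, nat_lit 1, nat_lit 2, nat_lit 3, nat_lit 2, nat_lit 3, nat_lit 1, nat_lit 2, nat_lit 3, nat_lit 2, nat_lit 3, nat_lit 4, nat_lit 1, nat_lit 2, nat_lit 3, nat_lit 2, nat_lit 3, nat_lit 1, nat_lit 2, nat_lit 3, nat_lit 2, nat_lit 3] else (Wt_184_186 j)
def Wt_186_188 (j : ℕ) : List ℕ := bif Nat.blt j 187 then [nat_lit 63, nat_lit 3, nat_lit 1, nat_lit 2, nat_lit 3, nat_lit 2, nat_lit 3, nat_lit 1, nat_lit 2, nat_lit 3, nat_lit 2, nat_lit 3, nat_lit 4, nat_lit 1, nat_lit 2, nat_lit 3, nat_lit 2, nat_lit 3, nat_lit 1, nat_lit 2, nat_lit 3, nat_lit 2, nat_lit 3, nat_lit 1, nat_lit 2, nat_lit 3, nat_lit 2, nat_lit 3, nat_lit 1, nat_lit 2, nat_lit 3, nat_lit 2, nat_lit 3, nat_lit 1, nat_lit 2, nat_lit 3, nat_lit 2, nat_lit 3, nat_lit 4, nat_lit 1, nat_lit 2, nat_lit 3, nat_lit 2, nat_lit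 3, nat_lit 1, nat_lit 2, nat_lit 3, nat_lit 2, nat_lit 3, nat_lit 1, nat_lit 2, nat_lit 3, nat_lit 2, nat_lit 3, nat_lit 1, nat_lit 2, nat_lit 3, nat_lit 2, nat_lit 3, nat_lit 1, nat_lit 2, nat_lit 3, nat_lit 2, nat_lit 3, nat_lit 4, nat_lit 1, nat_lit 2, nat_lit 3, nat_lit 2, nat_lit 3, nat_lit 1, nat_lit 2, nat_lit 3, nat_lit 2, nat_lit 3, nat_lit 1, nat_lit 2, nat_lit 3, nat_lit 2] else [nat_lit 63, nat_lit 2, nat_lit 1, nat_lit 3, nat_lit 2, nat_lit 3, nat_lit 2, nat_lit 1, nat_lit 3, nat_lit 2, nat_lit 3, nat_lit 2, nat_lit 1, nat_lit 3, nat_lit 2, nat_lit 3, nat_lit 2, nat_lit 1, nat_lit 4, nat_lit 3, nat_lit 2, nat_lit 3, nat_lit 2, nat_lit 1, nat_lit 3, nat_lit 2, nat_lit 3, nat_lit 2, nat_lit 1, nat_lit 3, nat_lit 2, nat_lit 3, nat_lit 2, nat_lit 1, nat_lit 3, nat_lit 2, nat_lit 3, nat_lit 2, nat_lit 1, nat_lit 3, nat_lit 2, nat_lit 3, nat_lit 2, nat_lit 1, nat_lit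 4, nat_lit 3, nat_lit 2, nat_lit 3, nat_lit 2, nat_lit 1, nat_lit 3, nat_lit 2, nat_lit 3, nat_lit 2, nat_lit 1, nat_lit 3, nat_lit 2, nat_lit 3, nat_lit 2, nat_lit 1, nat_lit 3, nat_lit 2, nat_lit 3, nat_lit 2, nat_lit 1, nat_lit 3, nat_lit 2, nat_lit 3, nat_lit 2, nat_lit 1, nat_lit 4, nat_lit 3, nat_lit 2, nat_lit 3, nat_lit 2, nat_lit 1, nat_lit 3, nat_lit 2, nat_lit 3]
def Wt_188_190 (j : ℕ) : List ℕ := bif Nat.blt j 189 then [nat_lit 1, nat_lit 2, nat_lit 3, nat_lit 2, nat_lit 3, nat_lit 1, nat_lit 2, nat_lit 3, nat_lit 2, nat_lit 3, nat_lit 1, nat_lit 2, nat_lit 3, nat_lit 2, nat_lit 3, nat_lit 4, nat_lit 1, nat_lit 2, nat_lit 3, nat_lit 2, nat_lit 3, nat_lit 1, nat_lit 2, nat_lit 3, nat_lit 2, nat_lit 3, nat_lit 1, nat_lit 2, nat_lit 3, nat_lit 2, nat_lit 3, nat_lit 1, nat_lit 2, nat_lit 3, nat_lit 2, nat_lit 3, nat_lit 1, nat_lit 2, nat_lit 3, nat_lit 2, nat_lit 3,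 nat_lit 4, nat_lit 1, nat_lit 2, nat_lit 3, nat_lit 2, nat_lit 3, nat_lit 1, nat_lit 2, nat_lit 3, nat_lit 2, nat_lit 3, nat_lit 1, nat_lit 2, nat_lit 3, nat_lit 2, nat_lit 3, nat_lit 1, nat_lit 2, nat_lit 3, nat_lit 2, nat_lit 3, nat_lit 1, nat_lit 2, nat_lit 3, nat_lit 2, nat_lit 3, nat_lit 4, nat_lit 1, nat_lit 2, nat_lit 3, nat_lit 2, nat_lit 3, nat_lit 1, nat_lit 2, nat_lit 3, nat_lit 2, nat_lit 3] else [nat_lit 6, nat_lit 5, nat_lit 0, nat_lit 6, nat_lit 5]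
def Wt_186_190 (j : ℕ) : List ℕ := bif Nat.blt j 188 then (Wt_186_188 j) else (Wt_188_190 j)
def Wt_183_190 (j : ℕ) : List ℕ := bif Nat.blt j 186 then (Wt_183_186 j) else (Wt_186_190 j)
def Wt_191_193 (j : ℕ) : List ℕ := bif Nat.blt j 192 then [nat_lit 2, nat_lit 1, nat_lit 4, nat_lit 3, nat_lit 2, nat_lit 3, nat_lit 2, nat_lit 1, nat_lit 3, nat_lit 2, nat_lit 3, nat_lit 2, nat_lit 1, nat_lit 3, nat_lit 2, nat_lit 3, nat_lit 2, nat_lit 1, nat_lit 3, nat_lit 2, nat_lit 3, nat_lit 2, nat_lit 1, nat_lit 3, nat_lit 2, nat_lit 3, nat_lit 2, nat_lit 1, nat_lit 4, nat_lit 3, nat_lit 2, nat_lit 3, nat_lit 2, nat_lit 1, nat_lit 3, nat_lit 2, nat_lit 3, nat_lit 2, nat_lit 1, nat_lit 3, nat_lit 2, nat_lit 3, nat_lit 2, nat_lit 1, nat_lit 3, nat_lit 2, nat_lit 3, nat_lit 2, nat_lit 1, nat_lit 3, nat_lit 2, nat_lit 3, nat_lit 2, nat_lit 1, nat_lit 4, nat_lit 3, nat_lit 2, nat_lit 3, nat_lit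 2, nat_lit 1, nat_lit 3, nat_lit 2, nat_lit 3, nat_lit 2, nat_lit 1, nat_lit 3, nat_lit 2, nat_lit 3, nat_lit 2, nat_lit 1, nat_lit 3, nat_lit 2, nat_lit 3, nat_lit 2, nat_lit 1, nat_lit 3, nat_lit 2, nat_lit 3] else [nat_lit 63, nat_lit 3, nat_lit 6, nat_lit 3, nat_lit 6]
def Wt_190_193 (j : ℕ) : List ℕ := bif Nat.blt j 191 then [nat_lit 2, nat_lit 3, nat_lit 2, nat_lit 3, nat_lit 1, nat_lit 2, nat_lit 3, nat_lit 2, nat_lit 3, nat_lit 1, nat_lit 2, nat_lit 3, nat_lit 2, nat_lit 3, nat_lit 4, nat_lit 1, nat_lit 2, nat_lit 3, nat_lit 2, nat_lit 3, nat_lit 1, nat_lit 2, nat_lit 3, nat_lit 2, nat_lit 3, nat_lit 1, nat_lit 2, nat_lit 3, nat_lit 2, nat_lit 3, nat_lit 1, nat_lit 2, nat_lit 3, nat_lit 2, nat_lit 3, nat_lit 1, nat_lit 2, nat_lit 3, nat_lit 2, nat_lit 3, nat_lit 4, nat_lit 1, nat_lit 2, nat_lit 3, nat_lit 2, nat_lit 3, nat_lit 1, nat_lit 2, nat_lit 3, nat_lit 2, nat_lit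 3, nat_lit 1, nat_lit 2, nat_lit 3, nat_lit 2, nat_lit 3, nat_lit 1, nat_lit 2, nat_lit 3, nat_lit 2, nat_lit 3, nat_lit 1, nat_lit 2, nat_lit 3, nat_lit 2, nat_lit 3, nat_lit 4, nat_lit 1, nat_lit 2, nat_lit 3, nat_lit 2, nat_lit 3, nat_lit 1, nat_lit 2, nat_lit 3, nat_lit 2, nat_lit 3, nat_lit 1] else (Wt_191_193 j)
def Wt_193_195 (j : ℕ) : List ℕ := bif Nat.blt j 194 then [nat_lit 3, nat_lit 2, nat_lit 3, nat_lit 2, nat_lit 0, nat_lit 3, nat_lit 2, nat_lit 3, nat_lit 2] else [nat_lit 63, nat_lit 5, nat_lit 6, nat_lit 5, nat_lit 6, nat_lit 5, nat_lit 6, nat_lit 5, nat_lit 6]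
def Wt_195_197 (j : ℕ) : List ℕ := bif Nat.blt j 196 then [nat_lit 63, nat_lit 5, nat_lit 6, nat_lit 0, nat_lit 5, nat_lit 6] else [nat_lit 3, nat_lit 63, nat_lit 3, nat_lit 63]
def Wt_193_197 (j : ℕ) : List ℕ := bif Nat.blt j 195 then (Wt_193_195 j) else (Wt_195_197 j)
def Wt_190_197 (j : ℕ) : List ℕ := bif Nat.blt j 193 then (Wt_190_193 j) else (Wt_193_197 j)
def Wt_183_197 (j : ℕ) : List ℕ := bif Nat.blt j 190 then (Wt_183_190 j) else (Wt_190_197 j)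
def Wt_169_197 (j : ℕ) : List ℕ := bif Nat.blt j 183 then (Wt_169_183 j) else (Wt_183_197 j)
def Wt_198_200 (j : ℕ) : List ℕ := bif Nat.blt j 199 then [nat_lit 63, nat_lit 63, nat_lit 6, nat_lit 63, nat_lit 6, nat_lit 63] else [nat_lit 3, nat_lit 1, nat_lit 2, nat_lit 3, nat_lit 2, nat_lit 3, nat_lit 1, nat_lit 2, nat_lit 3, nat_lit 2, nat_lit 3, nat_lit 1, nat_lit 2, nat_lit 3, nat_lit 2, nat_lit 3, nat_lit 4, nat_lit 1, nat_lit 2, nat_lit 3, nat_lit 2, nat_lit 3, nat_lit 1, nat_lit 2, nat_lit 3, nat_lit 2, nat_lit 3, nat_lit 1, nat_lit 2, nat_lit 3, nat_lit 2, nat_lit 3, nat_lit 1, nat_lit 2, nat_lit 3, nat_lit 2, nat_lit 3, nat_lit 1, nat_lit 2, nat_lit 3, nat_lit 2, nat_lit 3, nat_lit 4, nat_lit 1, nat_lit 2, nat_lit 3, nat_lit 2, nat_lit 3, nat_lit 1, nat_lit 2, nat_lit 3, nat_lit 2, nat_lit 3, nat_lit 1, nat_lit 2, nat_lit 3, nat_lit 2, nat_lit 3, nat_lit 1, nat_lit 2,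 nat_lit 3, nat_lit 2, nat_lit 3, nat_lit 1, nat_lit 2, nat_lit 3, nat_lit 2, nat_lit 3, nat_lit 4, nat_lit 1, nat_lit 2, nat_lit 3, nat_lit 2, nat_lit 3, nat_lit 1, nat_lit 2, nat_lit 3, nat_lit 2]
def Wt_197_200 (j : ℕ) : List ℕ := bif Nat.blt j 198 then [nat_lit 3, nat_lit 2, nat_lit 3, nat_lit 2, nat_lit 3, nat_lit 2, nat_lit 0, nat_lit 3, nat_lit 2] else (Wt_198_200 j)
def Wt_200_202 (j : ℕ) : List ℕ := bif Nat.blt j 201 then [nat_lit 63, nat_lit 3, nat_lit 1, nat_lit 2, nat_lit 3, nat_lit 2, nat_lit 3, nat_lit 1, nat_lit 2, nat_lit 3, nat_lit 2, nat_lit 3, nat_lit 1, nat_lit 2, nat_lit 3, nat_lit 2, nat_lit 3, nat_lit 4, nat_lit 1, nat_lit 2, nat_lit 3, nat_lit 2, nat_lit 3, nat_lit 1, nat_lit 2, nat_lit 3, nat_lit 2, nat_lit 3, nat_lit 1, nat_lit 2, nat_lit 3, nat_lit 2, nat_lit 3, nat_lit 1, nat_lit 2, nat_lit 3, nat_lit 2, nat_lit 3, nat_lit 1, nat_lit 2, nat_lit 3,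 nat_lit 2, nat_lit 3, nat_lit 4, nat_lit 1, nat_lit 2, nat_lit 3, nat_lit 2, nat_lit 3, nat_lit 1, nat_lit 2, nat_lit 3, nat_lit 2, nat_lit 3, nat_lit 1, nat_lit 2, nat_lit 3, nat_lit 2, nat_lit 3, nat_lit 1, nat_lit 2, nat_lit 3, nat_lit 2, nat_lit 3, nat_lit 1, nat_lit 2, nat_lit 3, nat_lit 2, nat_lit 3, nat_lit 4, nat_lit 1, nat_lit 2, nat_lit 3, nat_lit 2, nat_lit 3, nat_lit 1, nat_lit 2, nat_lit 3, nat_lit 2] else [nat_lit 63, nat_lit 5, nat_lit 3, nat_lit 5, nat_lit 3]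
def Wt_202_204 (j : ℕ) : List ℕ := bif Nat.blt j 203 then [nat_lit 5, nat_lit 0, nat_lit 1, nat_lit 2, nat_lit 5, nat_lit 0, nat_lit 1, nat_lit 2, nat_lit 5, nat_lit 0, nat_lit 1, nat_lit 2, nat_lit 5, nat_lit 0, nat_lit 1, nat_lit 2, nat_lit 5, nat_lit 0, nat_lit 1, nat_lit 2] else [nat_lit 63, nat_lit 2, nat_lit 1, nat_lit 3, nat_lit 2, nat_lit 3, nat_lit 2, nat_lit 1, nat_lit 4, nat_lit 3, nat_lit 2, nat_lit 3, nat_lit 2, nat_lit 1, nat_lit 3, nat_lit 2, nat_lit 3, nat_lit 2, nat_lit 1, nat_lit 3, nat_lit 2, nat_lit 3, nat_lit 2, nat_lit 1, nat_lit 3, nat_lit 2, nat_lit 3, nat_lit 2, nat_lit 1, nat_lit 3, nat_lit 2, nat_lit 3, nat_lit 2, nat_lit 1, nat_lit 4, nat_lit 3, nat_lit 2, nat_lit 3, nat_lit 2, nat_lit 1, nat_lit 3, nat_lit 2, nat_lit 3, nat_lit 2, nat_lit 1, nat_lit 3, nat_lit 2, nat_lit 3, nat_lit 2, nat_lit 1, nat_lit 3, nat_lit 2, nat_lit 3, nat_lit 2, nat_lit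 1, nat_lit 3, nat_lit 2, nat_lit 3, nat_lit 2, nat_lit 1, nat_lit 4, nat_lit 3, nat_lit 2, nat_lit 3, nat_lit 2, nat_lit 1, nat_lit 3, nat_lit 2, nat_lit 3, nat_lit 2, nat_lit 1, nat_lit 3, nat_lit 2, nat_lit 3, nat_lit 2, nat_lit 1, nat_lit 3, nat_lit 2, nat_lit 3]
def Wt_200_204 (j : ℕ) : List ℕ := bif Nat.blt j 202 then (Wt_200_202 j) else (Wt_202_204 j)
def Wt_197_204 (j : ℕ) : List ℕ := bif Nat.blt j 200 then (Wt_197_200 j) else (Wt_200_204 j)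
def Wt_205_207 (j : ℕ) : List ℕ := bif Nat.blt j 206 then [nat_lit 3, nat_lit 4, nat_lit 1, nat_lit 2, nat_lit 3, nat_lit 2, nat_lit 3, nat_lit 1, nat_lit 2, nat_lit 3, nat_lit 2, nat_lit 3, nat_lit 1, nat_lit 2, nat_lit 3, nat_lit 2, nat_lit 3, nat_lit 1, nat_lit 2, nat_lit 3, nat_lit 2, nat_lit 3, nat_lit 1, nat_lit 2, nat_lit 3, nat_lit 2, nat_lit 3, nat_lit 4, nat_lit 1, nat_lit 2, nat_lit 3, nat_lit 2, nat_lit 3, nat_lit 1, nat_lit 2, nat_lit 3, nat_lit 2, nat_lit 3, nat_lit 1, nat_lit 2, nat_lit 3, nat_lit 2, nat_lit 3, nat_lit 1, nat_lit 2, nat_lit 3, nat_lit 2, nat_lit 3, nat_lit 1, nat_lit 2, nat_lit 3, nat_lit 2, nat_lit 3, nat_lit 4, nat_lit 1, nat_lit 2, nat_lit 3, nat_lit 2, nat_lit 3, nat_lit 1, nat_lit 2, nat_lit 3, nat_lit 2, nat_lit 3, nat_lit 1, nat_lit 2, nat_lit 3, nat_lit 2, nat_lit 3, nat_lit 1, nat_lit 2, nat_lit 3, nat_lit 2, nat_lit 3, nat_lit 1, nat_lit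 2, nat_lit 3, nat_lit 2] else [nat_lit 3, nat_lit 1, nat_lit 2, nat_lit 3, nat_lit 2, nat_lit 3, nat_lit 1, nat_lit 2, nat_lit 3, nat_lit 2, nat_lit 3, nat_lit 4, nat_lit 1, nat_lit 2, nat_lit 3, nat_lit 2, nat_lit 3, nat_lit 1, nat_lit 2, nat_lit 3, nat_lit 2, nat_lit 3, nat_lit 1, nat_lit 2, nat_lit 3, nat_lit 2, nat_lit 3, nat_lit 1, nat_lit 2, nat_lit 3, nat_lit 2, nat_lit 3, nat_lit 1, nat_lit 2, nat_lit 3, nat_lit 2, nat_lit 3, nat_lit 4, nat_lit 1, nat_lit 2, nat_lit 3, nat_lit 2, nat_lit 3, nat_lit 1, nat_lit 2, nat_lit 3, nat_lit 2, nat_lit 3, nat_lit 1, nat_lit 2, nat_lit 3, nat_lit 2, nat_lit 3, nat_lit 1, nat_lit 2, nat_lit 3, nat_lit 2, nat_lit 3, nat_lit 1, nat_lit 2, nat_lit 3, nat_lit 2, nat_lit 3, nat_lit 4, nat_lit 1, nat_lit 2, nat_lit 3, nat_lit 2, nat_lit 3, nat_lit 1, nat_lit 2, nat_lit 3, nat_lit 2, nat_lit 3, nat_lit 1, nat_lit 2, nat_lit 3, nat_lit 2]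
def Wt_204_207 (j : ℕ) : List ℕ := bif Nat.blt j 205 then [nat_lit 63, nat_lit 2, nat_lit 3, nat_lit 2, nat_lit 3, nat_lit 2, nat_lit 3, nat_lit 0, nat_lit 2, nat_lit 3] else (Wt_205_207 j)
def Wt_207_209 (j : ℕ) : List ℕ := bif Nat.blt j 208 then [nat_lit 3, nat_lit 2, nat_lit 0, nat_lit 3, nat_lit 2, nat_lit 3, nat_lit 2, nat_lit 3, nat_lit 2] else [nat_lit 63, nat_lit 2, nat_lit 3, nat_lit 2, nat_lit 3, nat_lit 4, nat_lit 1, nat_lit 2, nat_lit 3, nat_lit 2, nat_lit 3, nat_lit 1, nat_lit 2, nat_lit 3, nat_lit 2, nat_lit 3, nat_lit 1, nat_lit 2, nat_lit 3, nat_lit 2, nat_lit 3, nat_lit 1, nat_lit 2, nat_lit 3, nat_lit 2, nat_lit 3, nat_lit 1, nat_lit 2, nat_lit 3, nat_lit 2, nat_lit 3, nat_lit 4, nat_lit 1, nat_lit 2, nat_lit 3, nat_lit 2, nat_lit 3, nat_lit 1, nat_lit 2, nat_lit 3, nat_lit 2, nat_lit 3, nat_lit 1, nat_lit 2, nat_lit 3, nat_lit 2, nat_lit 3, nat_lit 1, nat_lit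 2, nat_lit 3, nat_lit 2, nat_lit 3, nat_lit 1, nat_lit 2, nat_lit 3, nat_lit 2, nat_lit 3, nat_lit 4, nat_lit 1, nat_lit 2, nat_lit 3, nat_lit 2, nat_lit 3, nat_lit 1, nat_lit 2, nat_lit 3, nat_lit 2, nat_lit 3, nat_lit 1, nat_lit 2, nat_lit 3, nat_lit 2, nat_lit 3, nat_lit 1, nat_lit 2, nat_lit 3, nat_lit 2, nat_lit 3, nat_lit 1]
def Wt_209_211 (j : ℕ) : List ℕ := bif Nat.blt j 210 then [nat_lit 1, nat_lit 2, nat_lit 5, nat_lit 0, nat_lit 1, nat_lit 2, nat_lit 5, nat_lit 0, nat_lit 1, nat_lit 2, nat_lit 5, nat_lit 0, nat_lit 1, nat_lit 2, nat_lit 5, nat_lit 0, nat_lit 1, nat_lit 2, nat_lit 5, nat_lit 0] else [nat_lit 63, nat_lit 4, nat_lit 1, nat_lit 2, nat_lit 3, nat_lit 2, nat_lit 3, nat_lit 1, nat_lit 2, nat_lit 3, nat_lit 2, nat_lit 3, nat_lit 1, nat_lit 2, nat_lit 3, nat_lit 2, nat_lit 3, nat_lit 1, nat_lit 2, nat_lit 3, nat_lit 2, nat_lit 3, nat_lit 1, nat_lit 2, nat_lit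 3, nat_lit 2, nat_lit 3, nat_lit 4, nat_lit 1, nat_lit 2, nat_lit 3, nat_lit 2, nat_lit 3, nat_lit 1, nat_lit 2, nat_lit 3, nat_lit 2, nat_lit 3, nat_lit 1, nat_lit 2, nat_lit 3, nat_lit 2, nat_lit 3, nat_lit 1, nat_lit 2, nat_lit 3, nat_lit 2, nat_lit 3, nat_lit 1, nat_lit 2, nat_lit 3, nat_lit 2, nat_lit 3, nat_lit 4, nat_lit 1, nat_lit 2, nat_lit 3, nat_lit 2, nat_lit 3, nat_lit 1, nat_lit 2, nat_lit 3, nat_lit 2, nat_lit 3, nat_lit 1, nat_lit 2, nat_lit 3, nat_lit 2, nat_lit 3, nat_lit 1, nat_lit 2, nat_lit 3, nat_lit 2, nat_lit 3, nat_lit 1, nat_lit 2, nat_lit 3, nat_lit 2, nat_lit 3]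
def Wt_207_211 (j : ℕ) : List ℕ := bif Nat.blt j 209 then (Wt_207_209 j) else (Wt_209_211 j)
def Wt_204_211 (j : ℕ) : List ℕ := bif Nat.blt j 207 then (Wt_204_207 j) else (Wt_207_211 j)
def Wt_197_211 (j : ℕ) : List ℕ := bif Nat.blt j 204 then (Wt_197_204 j) else (Wt_204_211 j)
def Wt_212_214 (j : ℕ) : List ℕ := bif Nat.blt j 213 then [nat_lit 63, nat_lit 2, nat_lit 3, nat_lit 1, nat_lit 2, nat_lit 3, nat_lit 2, nat_lit 3, nat_lit 4, nat_lit 1, nat_lit 2, nat_lit 3, nat_lit 2, nat_lit 3, nat_lit 1, nat_lit 2, nat_lit 3, nat_lit 2, nat_lit 3, nat_lit 1, nat_lit 2, nat_lit 3, nat_lit 2, nat_lit 3, nat_lit 1, nat_lit 2, nat_lit 3, nat_lit 2, nat_lit 3, nat_lit 1, nat_lit 2, nat_lit 3, nat_lit 2, nat_lit 3, nat_lit 4, nat_lit 1, nat_lit 2, nat_lit 3, nat_lit 2, nat_lit 3, nat_lit 1, nat_lit 2, nat_lit 3, nat_lit 2, nat_lit 3, nat_lit 1, nat_lit 2, nat_lit 3, nat_lit 2, nat_lit 3,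 nat_lit 1, nat_lit 2, nat_lit 3, nat_lit 2, nat_lit 3, nat_lit 1, nat_lit 2, nat_lit 3, nat_lit 2, nat_lit 3, nat_lit 4, nat_lit 1, nat_lit 2, nat_lit 3, nat_lit 2, nat_lit 3, nat_lit 1, nat_lit 2, nat_lit 3, nat_lit 2, nat_lit 3, nat_lit 1, nat_lit 2, nat_lit 3, nat_lit 2, nat_lit 3, nat_lit 1, nat_lit 2, nat_lit 3] else [nat_lit 63, nat_lit 3, nat_lit 2, nat_lit 1, nat_lit 3, nat_lit 2, nat_lit 3, nat_lit 2, nat_lit 1, nat_lit 3, nat_lit 2, nat_lit 3, nat_lit 2, nat_lit 1, nat_lit 3, nat_lit 2, nat_lit 3, nat_lit 2, nat_lit 1, nat_lit 4, nat_lit 3, nat_lit 2, nat_lit 3, nat_lit 2, nat_lit 1, nat_lit 3, nat_lit 2, nat_lit 3, nat_lit 2, nat_lit 1, nat_lit 3, nat_lit 2, nat_lit 3, nat_lit 2, nat_lit 1, nat_lit 3, nat_lit 2, nat_lit 3, nat_lit 2, nat_lit 1, nat_lit 3, nat_lit 2, nat_lit 3, nat_lit 2, nat_lit 1, nat_lit 4, nat_lit 3, nat_lit 2, nat_lit 3, nat_lit 2, nat_lit 1,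 nat_lit 3, nat_lit 2, nat_lit 3, nat_lit 2, nat_lit 1, nat_lit 3, nat_lit 2, nat_lit 3, nat_lit 2, nat_lit 1, nat_lit 3, nat_lit 2, nat_lit 3, nat_lit 2, nat_lit 1, nat_lit 3, nat_lit 2, nat_lit 3, nat_lit 2, nat_lit 1, nat_lit 4, nat_lit 3, nat_lit 2, nat_lit 3, nat_lit 2, nat_lit 1, nat_lit 3, nat_lit 2]
def Wt_211_214 (j : ℕ) : List ℕ := bif Nat.blt j 212 then [nat_lit 63, nat_lit 3, nat_lit 2, nat_lit 3, nat_lit 2, nat_lit 1, nat_lit 4, nat_lit 3, nat_lit 2, nat_lit 3, nat_lit 2, nat_lit 1, nat_lit 3, nat_lit 2, nat_lit 3, nat_lit 2, nat_lit 1, nat_lit 3, nat_lit 2, nat_lit 3, nat_lit 2, nat_lit 1, nat_lit 3, nat_lit 2, nat_lit 3, nat_lit 2, nat_lit 1, nat_lit 3, nat_lit 2, nat_lit 3, nat_lit 2, nat_lit 1, nat_lit 4, nat_lit 3, nat_lit 2, nat_lit 3, nat_lit 2, nat_lit 1, nat_lit 3, nat_lit 2, nat_lit 3, nat_lit 2, nat_lit 1, nat_lit 3, nat_lit 2, nat_lit 3, nat_lit 2, nat_lit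 1, nat_lit 3, nat_lit 2, nat_lit 3, nat_lit 2, nat_lit 1, nat_lit 3, nat_lit 2, nat_lit 3, nat_lit 2, nat_lit 1, nat_lit 4, nat_lit 3, nat_lit 2, nat_lit 3, nat_lit 2, nat_lit 1, nat_lit 3, nat_lit 2, nat_lit 3, nat_lit 2, nat_lit 1, nat_lit 3, nat_lit 2, nat_lit 3, nat_lit 2, nat_lit 1, nat_lit 3, nat_lit 2, nat_lit 3, nat_lit 2, nat_lit 1] else (Wt_212_214 j)
def Wt_214_216 (j : ℕ) : List ℕ := bif Nat.blt j 215 then [nat_lit 63, nat_lit 3, nat_lit 2, nat_lit 3, nat_lit 2, nat_lit 1, nat_lit 3, nat_lit 2, nat_lit 3, nat_lit 2, nat_lit 1, nat_lit 3, nat_lit 2, nat_lit 3, nat_lit 2, nat_lit 1, nat_lit 3, nat_lit 2, nat_lit 3, nat_lit 2, nat_lit 1, nat_lit 3, nat_lit 2, nat_lit 3, nat_lit 2, nat_lit 1, nat_lit 4, nat_lit 3, nat_lit 2, nat_lit 3, nat_lit 2, nat_lit 1, nat_lit 3, nat_lit 2, nat_lit 3, nat_lit 2, nat_lit 1, nat_lit 3, nat_lit 2, nat_lit 3, nat_lit 2, nat_lit 1, nat_lit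 3, nat_lit 2, nat_lit 3, nat_lit 2, nat_lit 1, nat_lit 3, nat_lit 2, nat_lit 3, nat_lit 2, nat_lit 1, nat_lit 4, nat_lit 3, nat_lit 2, nat_lit 3, nat_lit 2, nat_lit 1, nat_lit 3, nat_lit 2, nat_lit 3, nat_lit 2, nat_lit 1, nat_lit 3, nat_lit 2, nat_lit 3, nat_lit 2, nat_lit 1, nat_lit 3, nat_lit 2, nat_lit 3, nat_lit 2, nat_lit 1, nat_lit 3, nat_lit 2, nat_lit 3, nat_lit 2, nat_lit 1, nat_lit 4] else [nat_lit 63, nat_lit 3, nat_lit 2, nat_lit 3, nat_lit 1, nat_lit 2, nat_lit 3, nat_lit 2, nat_lit 3, nat_lit 4, nat_lit 1, nat_lit 2, nat_lit 3, nat_lit 2, nat_lit 3, nat_lit 1, nat_lit 2, nat_lit 3, nat_lit 2, nat_lit 3, nat_lit 1, nat_lit 2, nat_lit 3, nat_lit 2, nat_lit 3, nat_lit 1, nat_lit 2, nat_lit 3, nat_lit 2, nat_lit 3, nat_lit 1, nat_lit 2, nat_lit 3, nat_lit 2, nat_lit 3, nat_lit 4, nat_lit 1, nat_lit 2, nat_lit 3, nat_lit 2, nat_lit 3, nat_lit 1, nat_lit 2, nat_lit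 3, nat_lit 2, nat_lit 3, nat_lit 1, nat_lit 2, nat_lit 3, nat_lit 2, nat_lit 3, nat_lit 1, nat_lit 2, nat_lit 3, nat_lit 2, nat_lit 3, nat_lit 1, nat_lit 2, nat_lit 3, nat_lit 2, nat_lit 3, nat_lit 4, nat_lit 1, nat_lit 2, nat_lit 3, nat_lit 2, nat_lit 3, nat_lit 1, nat_lit 2, nat_lit 3, nat_lit 2, nat_lit 3, nat_lit 1, nat_lit 2, nat_lit 3, nat_lit 2, nat_lit 3, nat_lit 1, nat_lit 2]
def Wt_216_218 (j : ℕ) : List ℕ := bif Nat.blt j 217 then [nat_lit 3, nat_lit 1, nat_lit 2, nat_lit 3, nat_lit 2, nat_lit 3, nat_lit 1, nat_lit 2, nat_lit 3, nat_lit 2, nat_lit 3, nat_lit 1, nat_lit 2, nat_lit 3, nat_lit 2, nat_lit 3, nat_lit 1, nat_lit 2, nat_lit 3, nat_lit 2, nat_lit 3, nat_lit 4, nat_lit 1, nat_lit 2, nat_lit 3, nat_lit 2, nat_lit 3, nat_lit 1, nat_lit 2, nat_lit 3, nat_lit 2, nat_lit 3, nat_lit 1, nat_lit 2, nat_lit 3, nat_lit 2, nat_lit 3, nat_lit 1, nat_lit 2, nat_lit 3,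 nat_lit 2, nat_lit 3, nat_lit 1, nat_lit 2, nat_lit 3, nat_lit 2, nat_lit 3, nat_lit 4, nat_lit 1, nat_lit 2, nat_lit 3, nat_lit 2, nat_lit 3, nat_lit 1, nat_lit 2, nat_lit 3, nat_lit 2, nat_lit 3, nat_lit 1, nat_lit 2, nat_lit 3, nat_lit 2, nat_lit 3, nat_lit 1, nat_lit 2, nat_lit 3, nat_lit 2, nat_lit 3, nat_lit 1, nat_lit 2, nat_lit 3, nat_lit 2, nat_lit 3, nat_lit 4, nat_lit 1, nat_lit 2, nat_lit 3, nat_lit 2] else [nat_lit 63, nat_lit 5, nat_lit 6, nat_lit 5, nat_lit 6, nat_lit 0]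
def Wt_214_218 (j : ℕ) : List ℕ := bif Nat.blt j 216 then (Wt_214_216 j) else (Wt_216_218 j)
def Wt_211_218 (j : ℕ) : List ℕ := bif Nat.blt j 214 then (Wt_211_214 j) else (Wt_214_218 j)
def Wt_218_220 (j : ℕ) : List ℕ := bif Nat.blt j 219 then [nat_lit 63, nat_lit 3, nat_lit 4, nat_lit 1, nat_lit 2, nat_lit 3, nat_lit 2, nat_lit 3, nat_lit 1, nat_lit 2, nat_lit 3, nat_lit 2, nat_lit 3, nat_lit 1, nat_lit 2, nat_lit 3, nat_lit 2, nat_lit 3, nat_lit 1, nat_lit 2, nat_lit 3, nat_lit 2, nat_lit 3, nat_lit 1, nat_lit 2, nat_lit 3, nat_lit 2, nat_lit 3, nat_lit 4, nat_lit 1, nat_lit 2, nat_lit 3, nat_lit 2, nat_lit 3, nat_lit 1, nat_lit 2, nat_lit 3, nat_lit 2, nat_lit 3, nat_lit 1, nat_lit 2, nat_lit 3, nat_lit 2, nat_lit 3, nat_lit 1, nat_lit 2, nat_lit 3, nat_lit 2, nat_lit 3, nat_lit 1, nat_lit 2, nat_lit 3, nat_lit 2, nat_lit 3, nat_lit 4, nat_lit 1, nat_lit 2, nat_lit 3, nat_lit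 2, nat_lit 3, nat_lit 1, nat_lit 2, nat_lit 3, nat_lit 2, nat_lit 3, nat_lit 1, nat_lit 2, nat_lit 3, nat_lit 2, nat_lit 3, nat_lit 1, nat_lit 2, nat_lit 3, nat_lit 2, nat_lit 3, nat_lit 1, nat_lit 2, nat_lit 3, nat_lit 2] else [nat_lit 3, nat_lit 2, nat_lit 1, nat_lit 3, nat_lit 2, nat_lit 3, nat_lit 2, nat_lit 1, nat_lit 3, nat_lit 2, nat_lit 3, nat_lit 2, nat_lit 1, nat_lit 3, nat_lit 2, nat_lit 3, nat_lit 2, nat_lit 1, nat_lit 4, nat_lit 3, nat_lit 2, nat_lit 3, nat_lit 2, nat_lit 1, nat_lit 3, nat_lit 2, nat_lit 3, nat_lit 2, nat_lit 1, nat_lit 3, nat_lit 2, nat_lit 3, nat_lit 2, nat_lit 1, nat_lit 3, nat_lit 2, nat_lit 3, nat_lit 2, nat_lit 1, nat_lit 3, nat_lit 2, nat_lit 3, nat_lit 2, nat_lit 1, nat_lit 4, nat_lit 3, nat_lit 2, nat_lit 3, nat_lit 2, nat_lit 1, nat_lit 3, nat_lit 2, nat_lit 3, nat_lit 2, nat_lit 1, nat_lit 3, nat_lit 2, nat_lit 3, nat_lit 2, nat_lit 1,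 nat_lit 3, nat_lit 2, nat_lit 3, nat_lit 2, nat_lit 1, nat_lit 3, nat_lit 2, nat_lit 3, nat_lit 2, nat_lit 1, nat_lit 4, nat_lit 3, nat_lit 2, nat_lit 3, nat_lit 2, nat_lit 1, nat_lit 3, nat_lit 2]
def Wt_220_222 (j : ℕ) : List ℕ := bif Nat.blt j 221 then [nat_lit 63, nat_lit 6, nat_lit 1, nat_lit 6, nat_lit 1, nat_lit 6, nat_lit 1] else [nat_lit 63, nat_lit 2, nat_lit 5, nat_lit 0, nat_lit 1, nat_lit 2, nat_lit 5, nat_lit 0, nat_lit 1, nat_lit 2, nat_lit 5, nat_lit 0, nat_lit 1, nat_lit 2, nat_lit 5, nat_lit 0, nat_lit 1, nat_lit 2, nat_lit 5, nat_lit 0, nat_lit 1]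
def Wt_218_222 (j : ℕ) : List ℕ := bif Nat.blt j 220 then (Wt_218_220 j) else (Wt_220_222 j)
def Wt_222_224 (j : ℕ) : List ℕ := bif Nat.blt j 223 then [nat_lit 5, nat_lit 6, nat_lit 1, nat_lit 5, nat_lit 6, nat_lit 1, nat_lit 5, nat_lit 6, nat_lit 1, nat_lit 5, nat_lit 6, nat_lit 1, nat_lit 5, nat_lit 6, nat_lit 1] else [nat_lit 63, nat_lit 5, nat_lit 0, nat_lit 1, nat_lit 2, nat_lit 5, nat_lit 0, nat_lit 1, nat_lit 2, nat_lit 5, nat_lit 0, nat_lit 1, nat_lit 2, nat_lit 5, nat_lit 0, nat_lit 1, nat_lit 2, nat_lit 5, nat_lit 0, nat_lit 1, nat_lit 2]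
def Wt_224_226 (j : ℕ) : List ℕ := bif Nat.blt j 225 then [nat_lit 1, nat_lit 2, nat_lit 3, nat_lit 2, nat_lit 3, nat_lit 1, nat_lit 2, nat_lit 3, nat_lit 2, nat_lit 3, nat_lit 1, nat_lit 2, nat_lit 3, nat_lit 2, nat_lit 3, nat_lit 1, nat_lit 2, nat_lit 3, nat_lit 2, nat_lit 3, nat_lit 1, nat_lit 2, nat_lit 3, nat_lit 2, nat_lit 3, nat_lit 4, nat_lit 1, nat_lit 2, nat_lit 3, nat_lit 2, nat_lit 3, nat_lit 1, nat_lit 2, nat_lit 3, nat_lit 2, nat_lit 3, nat_lit 1, nat_lit 2, nat_lit 3, nat_lit 2, nat_lit 3, nat_lit 1, nat_lit 2, nat_lit 3, nat_lit 2, nat_lit 3, nat_lit 1, nat_lit 2, nat_lit 3, nat_lit 2, nat_lit 3, nat_lit 4, nat_lit 1, nat_lit 2, nat_lit 3, nat_lit 2, nat_lit 3, nat_lit 1, nat_lit 2, nat_lit 3, nat_lit 2, nat_lit 3, nat_lit 1, nat_lit 2, nat_lit 3, nat_lit 2, nat_lit 3, nat_lit 1, nat_lit 2, nat_lit 3, nat_lit 2, nat_lit 3, nat_lit 1, nat_lit 2, nat_lit 3, nat_lit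 2, nat_lit 3, nat_lit 4] else [nat_lit 2, nat_lit 3, nat_lit 2, nat_lit 1, nat_lit 3, nat_lit 2, nat_lit 3, nat_lit 2, nat_lit 1, nat_lit 3, nat_lit 2, nat_lit 3, nat_lit 2, nat_lit 1, nat_lit 3, nat_lit 2, nat_lit 3, nat_lit 2, nat_lit 1, nat_lit 3, nat_lit 2, nat_lit 3, nat_lit 2, nat_lit 1, nat_lit 4, nat_lit 3, nat_lit 2, nat_lit 3, nat_lit 2, nat_lit 1, nat_lit 3, nat_lit 2, nat_lit 3, nat_lit 2, nat_lit 1, nat_lit 3, nat_lit 2, nat_lit 3, nat_lit 2, nat_lit 1, nat_lit 3, nat_lit 2, nat_lit 3, nat_lit 2, nat_lit 1, nat_lit 3, nat_lit 2, nat_lit 3, nat_lit 2, nat_lit 1, nat_lit 4, nat_lit 3, nat_lit 2, nat_lit 3, nat_lit 2, nat_lit 1, nat_lit 3, nat_lit 2, nat_lit 3, nat_lit 2, nat_lit 1, nat_lit 3, nat_lit 2, nat_lit 3, nat_lit 2, nat_lit 1, nat_lit 3, nat_lit 2, nat_lit 3, nat_lit 2, nat_lit 1, nat_lit 3, nat_lit 2, nat_lit 3, nat_lit 2, nat_lit 1, nat_lit 4, nat_lit 3]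
def Wt_222_226 (j : ℕ) : List ℕ := bif Nat.blt j 224 then (Wt_222_224 j) else (Wt_224_226 j)
def Wt_218_226 (j : ℕ) : List ℕ := bif Nat.blt j 222 then (Wt_218_222 j) else (Wt_222_226 j)
def Wt_211_226 (j : ℕ) : List ℕ := bif Nat.blt j 218 then (Wt_211_218 j) else (Wt_218_226 j)
def Wt_197_226 (j : ℕ) : List ℕ := bif Nat.blt j 211 then (Wt_197_211 j) else (Wt_211_226 j)
def Wt_169_226 (j : ℕ) : List ℕ := bif Nat.blt j 197 then (Wt_169_197 j) else (Wt_197_226 j)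
def Wt_113_226 (j : ℕ) : List ℕ := bif Nat.blt j 169 then (Wt_113_169 j) else (Wt_169_226 j)
def Wt_0_226 (j : ℕ) : List ℕ := bif Nat.blt j 113 then (Wt_0_113 j) else (Wt_113_226 j)
def Wt (j : ℕ) : List ℕ := (Wt_0_226 j)
def W (j : ℕ) : List ℕ := bif Nat.blt j 226 then Wt j else []
theorem W_ge (j : ℕ) (h : 226 ≤ j) : W j = [] := by
  unfold W
  rw [blt_false_of_le h]
  rfl
def Hl : List ℕ := [nat_lit 0, nat_lit 1, nat_lit 2, nat_lit 3, nat_lit 4, nat_lit 5]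
def isH (y : ℕ) : Bool := List.elem y Hl
def Rb : List (List ℕ) := [[nat_lit 0, nat_lit 0],
  [nat_lit 1, nat_lit 0, nat_lit 1, nat_lit 0, nat_lit 1, nat_lit 0, nat_lit 1, nat_lit 0, nat_lit 1, nat_lit 0],
  [nat_lit 2, nat_lit 0, nat_lit 2, nat_lit 0],
  [nat_lit 3, nat_lit 0, nat_lit 3, nat_lit 0],
  [nat_lit 4, nat_lit 0, nat_lit 4, nat_lit 0],
  [nat_lit 5, nat_lit 0, nat_lit 5, nat_lit 0],
  [nat_lit 6, nat_lit 0, nat_lit 6, nat_lit 0],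
  [nat_lit 1, nat_lit 1],
  [nat_lit 2, nat_lit 1, nat_lit 2, nat_lit 1, nat_lit 2, nat_lit 1],
  [nat_lit 3, nat_lit 1, nat_lit 3, nat_lit 1],
  [nat_lit 4, nat_lit 1, nat_lit 4, nat_lit 1],
  [nat_lit 5, nat_lit 1, nat_lit 5, nat_lit 1, nat_lit 5, nat_lit 1],
  [nat_lit 6, nat_lit 1, nat_lit 6, nat_lit 1, nat_lit 6, nat_lit 1],
  [nat_lit 2, nat_lit 2],
  [nat_lit 3, nat_lit 2, nat_lit 3, nat_lit 2, nat_lit 3, nat_lit 2, nat_lit 3, nat_lit 2, nat_lit 3, nat_lit 2, nat_lit 3, nat_lit 2, nat_lit 3, nat_lit 2, nat_lit 3, nat_lit 2],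
  [nat_lit 4, nat_lit 2, nat_lit 4, nat_lit 2],
  [nat_lit 5, nat_lit 2, nat_lit 5, nat_lit 2],
  [nat_lit 6, nat_lit 2, nat_lit 6, nat_lit 2],
  [nat_lit 3, nat_lit 3],
  [nat_lit 4, nat_lit 3, nat_lit 4, nat_lit 3, nat_lit 4, nat_lit 3],
  [nat_lit 5, nat_lit 3, nat_lit 5, nat_lit 3],
  [nat_lit 6, nat_lit 3, nat_lit 6, nat_lit 3],
  [nat_lit 4, nat_lit 4],
  [nat_lit 5, nat_lit 4, nat_lit 5, nat_lit 4],
  [nat_lit 6, nat_lit 4, nat_lit 6, nat_lit 4],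
  [nat_lit 5, nat_lit 5],
  [nat_lit 6, nat_lit 5, nat_lit 6, nat_lit 5, nat_lit 6, nat_lit 5, nat_lit 6, nat_lit 5],
  [nat_lit 6, nat_lit 6],
  [nat_lit 2, nat_lit 3, nat_lit 2, nat_lit 3, nat_lit 2, nat_lit 3, nat_lit 2, nat_lit 3, nat_lit 0],
  [nat_lit 5, nat_lit 6, nat_lit 5, nat_lit 6, nat_lit 0],
  [nat_lit 5, nat_lit 2, nat_lit 1, nat_lit 0, nat_lit 5, nat_lit 2, nat_lit 1, nat_lit 0, nat_lit 5, nat_lit 2, nat_lit 1, nat_lit 0, nat_lit 5, nat_lit 2, nat_lit 1, nat_lit 0, nat_lit 5, nat_lit 2, nat_lit 1, nat_lit 0],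
  [nat_lit 6, nat_lit 5, nat_lit 1, nat_lit 6, nat_lit 5, nat_lit 1, nat_lit 6, nat_lit 5, nat_lit 1, nat_lit 6, nat_lit 5, nat_lit 1, nat_lit 6, nat_lit 5, nat_lit 1],
  [nat_lit 4, nat_lit 3, nat_lit 2, nat_lit 3, nat_lit 2, nat_lit 1, nat_lit 3, nat_lit 2, nat_lit 3, nat_lit 2, nat_lit 1, nat_lit 3, nat_lit 2, nat_lit 3, nat_lit 2, nat_lit 1, nat_lit 3, nat_lit 2, nat_lit 3, nat_lit 2, nat_lit 1, nat_lit 3, nat_lit 2, nat_lit 3, nat_lit 2, nat_lit 1, nat_lit 4, nat_lit 3, nat_lit 2, nat_lit 3, nat_lit 2, nat_lit 1, nat_lit 3, nat_lit 2, nat_lit 3, nat_lit 2, nat_lit 1, nat_lit 3, nat_lit 2, nat_lit 3, nat_lit 2, nat_lit 1, nat_lit 3, nat_lit 2, nat_lit 3, nat_lit 2, nat_lit 1, nat_lit 3, nat_lit 2, nat_lit 3, nat_lit 2, nat_lit 1, nat_lit 4, nat_lit 3, nat_lit 2, nat_lit 3, nat_lit 2, nat_lit 1, nat_lit 3, nat_lit 2, nat_lit 3, nat_lit 2, nat_lit 1, nat_lit 3, nat_lit 2,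 nat_lit 3, nat_lit 2, nat_lit 1, nat_lit 3, nat_lit 2, nat_lit 3, nat_lit 2, nat_lit 1, nat_lit 3, nat_lit 2, nat_lit 3, nat_lit 2, nat_lit 1],
  []]
def spT_0_2 (j : ℕ) : ℕ := bif Nat.blt j 1 then nat_lit 0x320000002c000000420000000000000000000020100000000200002004000000160000200a0002a0400000200a0000203a0000202800002040000020020000201600000032000000100000403c000000060000c038000020200000200400000038000020100000200c0000202a00000012000000120000203900000024000000240000001a000020120002c0400000001a0000000e000020220000803a0000002e000000200000203c000020220000201e0000001000002008000020060000003a0000003600000000000000360000000e000000160000203b0000203e0000201400002012000020180000603a000000300000002a000000220000000c else nat_lit 0x20060000803b00000020000300400000000a0000803800002014000020200000001c0000c0380000201e0000a03800002002000000060000a0390000000e0000001a0000000e000000000000000400000014000060380000201c0000002c000000280000403e000020340000202600006038000040400000603c0000a038000020380000001e0000001a000260400002e0400000603b0000403b0000201c0000e0380000202e00000018000000080000000a00018040000240400000002c0000001c00010038000000040001c0400000003f0000403a0000803a00000032000020180000603a000020160000203000000014000000260002204000020040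
def spT_2_4 (j : ℕ) : ℕ := bif Nat.blt j 3 then nat_lit 0x32040000180410000803b00016041000120400001c041000060410002a0410001404100000026000200410001e041000160410000002c000000420000002400000000000000320000000e000000320000002c000000320000001a0000002400000036000000360000003600000034000000020000603d00002028000040390000e0410000c04000014040000000080000e0390000002a0000203b000080380000003b00016040000000340000403800002008000000410000c0390000a039000280400000c0400000e0400000e038000100380001a040000020260000003800006039000020380001e0400000003c0000001e000000400000203a0000003e else nat_lit 0x6040000020410000603d0000403f0000403d0000001800012040000300410000003a0000a041000220410000204000010040000240410002a040000320410000403d0002a041000100390001e0410003204100004038000260400000003d0000002800012041000140410000003600008039000000240000403a000020340000c0390000202a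
def spT_0_4 (j : ℕ) : ℕ := bif Nat.blt j 2 then (spT_0_2 j) else (spT_2_4 j)
def spT (j : ℕ) : ℕ := (spT_0_4 j)
def sp (j : ℕ) : ℕ := Nat.land (Nat.shiftRight (spT (Nat.shiftRight j 6)) (Nat.mul (Nat.land j 63) 32)) 4294967295
theorem Eo_lt (r : ℕ) : Eo r < 18014398509481984 := land54_lt _
def cT_1_3 (j : ℕ) : ℕ := bif Nat.blt j 2 then nat_lit 0x4a3001c58001e26001bff001c29001cad001466001c1e001440000277001db4001db50004190005310002c0001f89001efd001c2800270d001d070003c90004ec0004e90004ea0004e80004e700041b00053b0003c000058900058800053e0004e500023800041d000f69000281001be5001cac0014b60003b7000452001bed001bf20014670002340014e90013db000f6c000f6a0022f90020010003e30003fe0026740003ba00204d001be40025ca0021fa002a240022ee001c800025cf001cd70003ee0005aa00044b00023d000279001c5f002712001fbb00043500037c000448000594001fb90025c80025ce001efc00045d00023b001bf1001be9000580000241001bd00002b70004f20003be001be3001bee0005b0001c1f000f6d000231001be700041a00053200049a0004960002350004950004940003c800049300023700041c00049000023900048f00001a0013c900022d0014a70013d800023300152800146800022a0013da0014010013a400037b0003fd0003bb0025c9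 else nat_lit 0x1e20001d380026d1001d46001bfe001c2a000413001c830015410022530004bb001de5001e29001db6000418000508000530001c2200263d0026ae001d3700270f001d060004b20003ca001f57001f27001e27002710001efe000503002a5b001beb00270e001f5900048400053a00053700053600041e000512001fff0003ce001c24001d63001cd9000f66000f68001e7b001c00001cb0001bf3000414001bec001d08000416000513000f6b0004bd0023110023020022f700230c001cec0003e40020ee0021d000204a0020850020520025cb002ad3002166002221002673002a250022ed001c1d0026c9002a120026a3001c1b0025d0001cd60003d400230e0020020003ed0003e200201a00023e00027a0002c200201b001c5e001c5a001fed0029bb0020490004100004120023100020000007270003ff0020540004ed001be60025cd0021d50026400025fd002348001efb00045e00037d0004000002bf000278001c250025ed001fba0004d8000240001c560002b800049f0002c1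
def cT_0_3 (j : ℕ) : ℕ := bif Nat.blt j 1 then nat_lit 0x22d500146e0022e8001cd80003ef00023c001bf0001bef0005af0003a40004470004460004450004440003c500044200023a00044000022500022700022c0002320005b1001be80004dd00022e00042b0000cb0004430002360003c700001900001b0002760013d50002290013d900156a00022b00146900007b0013d00013d40013a300037a0003fc0003bc0002280003fa0003f90003f00003f60003f50003f40003b10003f80003f70003c600018b0000bf0001fa0001fb0002b60000ca00022f0004910000cc0000180002260014030006fe00007a0001c00001c100007c000184000f6f0000790003ad0003790003b00003770003ac00018a0003ab00001700000c0000c90002300002f700010100000d0000c500017f0000770000c400007d00013c00018000033600007600036d00001600036c00002000000b00000f0001430000bc00007800000a00005700007500013b000015000056000010000009000013000014000055000005000003000008000006000002000001000000 else (cT_1_3 j)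
def cT_3_5 (j : ℕ) : ℕ := bif Nat.blt j 4 then nat_lit 0x1f5800041f001d8e001fc50023540003cf002145001d84001d88001cda00052f000511001ffe000f670003cd0022e9001cb1001c01001bf40005150021e1000f4c001e7c001d09000417000415001d8f0005140004bc0003d00023010024ac0022ef00248f002331001fc400145a0020ef0020be002ae5002083002088002635002197002aa80026330023120022ec0026760026780023b9001dca001c1c001cca0026a40025fa0026a2001c1a0025e1001cbc0026a60025f70026570022560025f5001fa10003d30003ec0028db001ced0003e1000f5400204e00204b00027b00204c001c5b00202000263200201c00201e00238600216f0025d1001f3f00051b0005170021e300041100050e00232c00232b002329001ceb0003e500205300208a0025cc002aa50021460022450027020025fc00234a002347002353001d8900236b001efa0003d500045f00232a001ee000037e0003e9001feb001c23001db3001fec0025ee001fbc0004b30004b500023f00070f001c5d001c59002021 else nat_lit 0x238b002364001d1d002059001f3300259f001f3e0027f10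01f40001e3e0003eb0023b4002150001dcd00155700051800050b001eb800050d0013e300249e0024ae001cea0003e6002089002671002b4900270300232d0025fb002ba00026790023520024ff00233600236d00236a002376001d8a0025e2001cbd00285d001f8b0003d60003dd002349002346002345001edf002344001ee10005bc00037f0023420023090003ea0003e8001fea00267c001fee001db2002571001f010025ef001eff00051c00057900251d0004b40013bf00027c001c5c0020f10021c800202200259b001d61001ea2001bfd001bf50021e200050f001dc8001c84001deb002384000516001ed2002254000f51002a1c0014c4001de4001e2a001d0d001d0b001bd2001d590005090005230004b6001d36001fb80027260023620026ad001fc00025f0001d0500051d0007220022520003cb0004ba0026b20026af001ecf00271f001f28000504000507002c7a00227000271d001f8a0003dc002a570025e9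
def cT_5_7 (j : ℕ) : ℕ := bif Nat.blt j 6 then nat_lit 0x4d30021b80026b30029a1002ab6001f2c002a52001f2900051e0004c3001d5800050600052400226f001ed30013e500038a002a580025e8001f5a0004260003db002481001d320027a5001f190004c0000388002144001cdd00260d002337001d87001cdb0004b7001d8d001fc6001ede000510001ffd0004b900224f0003cc00057b002604001e05001c02001dc7001c2d001e85001e3c0021e0001eb6001ea4001dba001d0a00295b000430002014001d900014c3001fd60003d100038700230000348000269b0022f00027c200249200246b00246d002330002c280022ff001d33001ed10020bf002b19002ae60034750023130026300026770023ba002aaa002696001c17001d98001dc9002516001ccb001c0c0023dc001dcb001c19001cc90028100025e0002688001cbb002519001f30002255001f110026a50025f6002646001fa00025db001fa2001fd30003d200285c0025a0001cee0004c900039f000521001c050004c7000f5300142a00208700347300263100201d00201f else nat_lit 0x2b7d002d14001f0d002500001f26001ffc0023750024ed00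1d8b001ffa002845002843002689001dfb001ed4002511001cbe0003d70013e400038c00038b0028ce0028cc00233500236c00236900235c002366001fa3001ee20003950003800023610004c2001fc80003e7000f4f001fe900267d001fef001db100250300238a002308001f020027610024c8001f000027d6001f41001fde0004c1001da9001fe400057a001fe200155600057c0004b8001eed0013ae0013b0002116001bf9001e2f002119002267001e1b001e7d001e7f001bfc002c3e001bf6001e860023a70028d2001eb7001c15003109001c85002616001cd1001ccd001d92001e3d00205b001d1b001f0f001ec9001cf50014c5001503001de3001e2b001e53001d0e0025c0001d0c001c91001c03001c0f001bd3001c0d00050a000f52001c35000522001502001bd100251e001be2001d35001fb70027270023670027460024d3001fc10027140028d00026ac001d04001f4200273e001d19002251000f50001ffb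
def cT_3_7 (j : ℕ) : ℕ := bif Nat.blt j 5 then (cT_3_5 j) else (cT_5_7 j)
def cT_0_7 (j : ℕ) : ℕ := bif Nat.blt j 3 then (cT_0_3 j) else (cT_3_7 j)
def cT_8_10 (j : ℕ) : ℕ := bif Nat.blt j 9 then nat_lit 0x1cf4000529001d24001de2002266003366001e52001d0f001f07003168002125001e540021f9002123001c90002247001c10002174001c92001c0e00144f001c34001c36001d25001eeb001eec00292a001ea6001ea80024d00026810024d20028bb00346a0028b90028cf002766002576001d0300278c00285e001f46001fca001ce6001d18001da80021b700268f00284f002ab7002479001f2d001f490026ba002abd001f2b001f43001ca1001d69001d570005cd0013e7001d4e0015070005250013af001cc30025e7001f5b0013e60003da00039a00215f0024da001da3001d31001d010028c4002497001f1a001f18001fa6000389001ff0001dac001cde002521001f0e0021f8001f25001edc002271001ece001eda001cdc001daa001ed700279b002eec001eb1001d8c001fc7001edd00224e002250001fe000052b001e2e001e2c001e47002124001dc6001c2e002324001e84002029001e3b001e3a0021df002c20001eb5001ea5001ecd001dbb002c0b001db900295a001dd7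 else nat_lit 0x1f4c00212a00261a001d21001e42001d9a001d9c001cf10005260014250014510013b2002af8002699002495001ce8001d160025bc002690002aaf002aae002aac002d12002b7c002e3c002d130025740021f4002c48001fda002374002b80002de4001f0c0024ee002610001dbd001ecb002594002130001c9c001e8c00252a001cbf00038d002b1200235b0028460025dd00257c001f16001fe8001ea900267e002b7a001db0002246002572001fc9002307001f0300296e002eef001ce70024c900246f0025260021d6001ce5002189001fdd001f17001f9a001fe5001dbf001fdf001fe3001dcf001fe1001fa4001eee00052800052a001bf8002614003129001bfa001e30001d2c002268001d2b00346b003253001e7e00210c001bfb001e80003240001bf7003185001e0000202a0023a6001e39002f940028d3002a21001f39001c1400310800260200230600259800214e001cd2001cd0001ddf001cce001f37001e83001d93001dc5002bef001f9c001e82001eca001e4c001cf6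
def cT_7_10 (j : ℕ) : ℕ := bif Nat.blt j 8 then nat_lit 0x2013001da4001d91001501001d9e001504001fd5001559000386002b8500347f00269c001ec8001dd8001f1b0028b1001dd900246c002470002496002451002494001d1a002c270022fe001d34001d00001ed0003487002cf800269e002aab002693002697002393001fd0001d9700227e001c16002617001ccc0023dd002695001d99002530001ca6001c0b00243f00212f001cba001e9300251a002655002395001f2f00205c001f10002533001f31001f9f001d1f00280f0025dc0028090026f20025a1001fd2001fd400251b00287100244f001f15001cef000385000381001c37000520001c060004c40004c6001c04001c930013eb002cf9002200002391001c86001d1c00205a001f9e001c130021ae0023de002388001d1e001e06001f3200244d00202d00212b002385001c1800214f002bf6001d20001dcc001dce001d9b001558001cf000052700050c0013e20013b100249f002b1100269a0024a0002491002315001ce90025bd002670002314002ab0002b7b002aad002351 else (cT_8_10 j)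
def cT_10_12 (j : ℕ) : ℕ := bif Nat.blt j 11 then nat_lit 0x1dab001d2e001eb0002792001eb200261200224d001da6002753001da7002769001e2d002265002f58001e46001c2f001ebf0021320022940020660024870021de002149001f220024de001e48001edb001ecc001dbc001ed800295700214a002148001eb400270c002c0a001dd6002012001da5001dd0001cf3001d23002007001d9d002684001e9d001cf7001e4d001ec1001f1c001ec5001ec70027b2001dda0024500025950024750021ac00271600228e0026270021db001cff00268200346d00269d002ac7003472002698002575001fcf001d9600227d002600001de0001f380026940025a3001c08002440002b91002154001cb900261c001c8c001d4d0030d100265400264b002394001f2e0023a5002534002e4a0025a500205f002648001f4b002282001ebc0025a2001fd1002452002006002535002433000384001c38001c8b0005cc001c070004c5000382001c940013e80013ea00221b002392001f9d001c120026920021ad001d520021af002441002435001ee600202c else nat_lit 0x20fd001d95003241001cb6001cb8001ebe0021310020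2b002065001e3800336e001f21002dd9001d120033b9002601001dc000259700214d001e3600224b001dde001ccf001e0b001e25001d94001dc4002c0e0027e50028ae001f9b00213c0032e3001e4b00228c001fac001f23001da1001dd3001d2d00336d001e5100316b001d100024f3001f06002276002278002126001f08002122001c8f001e8a001c11001de6001de1001450002262001c33001e81001c45001d26001eea0026f4001e49001fcc001ce3001ea70032c7002e570024d10021dd002a67002af700257300268000285f001f47001dbe001fcb001f99001d17001d2f0024760030d3002478002649001f48001f4a00268e002ab800245600206e002062002873001f45001c8d002297001d56001c40001508001d22001cc20013ed000390001426002160001ef4001da2001d30001d020033e20021f00024cf001fd9001fa5001dad001cdf002522001f0b0021f70021210022f3002c59001eb3001f24001ed9001f09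
def cT_12_14 (j : ℕ) : ℕ := bif Nat.blt j 13 then nat_lit 0x1f0a001dd50032ff002011001ef1001d27001dd40021e90030f900213b001c32001ec0002008001ec2001f1d001cfb001ec4001f50001ec6001e4e002f6e001ddb0027e40021e80030d40020fc001cf8001c3100228f00228b00228d0021dc001cfe0026830029b300227c002b8e0030d5002454001c090026b7002b2f0025a4002060002e49002283002d2f00287400245300225a001c39001c8a000383001c950013e90013b7002ead001dae002d1c0021b0001d530022980021290028350021e70014520013b300262a0030d2002691001fce00264a0021f5001fdb002b9b0030d90021f3002a7d0026110030f6002b8a00215500261d001e8b00038e001ebd001fcd001ce2001eaa00304e00267f0026e9001daf001ce10022770026e60026e80025250026e30029a9001ce4001ee7002073001f4d001fdc001eab00237300250d001e43001cf2001c4a00224c00214c003104002613001e31001d15001e4a00213a001fae001f20001e50002290001d2a001c30002260001d280020fb else nat_lit 0x3481003484001c3d002157002650002d1a003483001c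3c0013b500225c0020090026fe001ec30021580027000026ff001ddc001cf900200a002b880030f8002b8d00348600264f002aba002d2e001c3a0013b6002d1b001d540022990013b40028690021f20030f7002b8900225b00227a003479001dc20026e50026e70026e400346c001ee80027d2003477001faf001cfa001fb0001e4f00215600225f001d29001f4f003476001e44002284001cfd001ef20027a9001e37001ddd001dc3002128001fad001fab001dc10029b4002127002279001cb7002261001ee900227b0034780023c3001f970031050030da0024770026b6002ab900314f002455002b2e00206100206c003110001c8e001d55001c3b001c970013ba002162001cfc0027ce0026fd0021f1001ce0001f96001f980021f60021200022f4001d14002752001d11001d13001e45002133001f4e00206700216100213d001ef300261e00214b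
def cT_10_14 (j : ℕ) : ℕ := bif Nat.blt j 12 then (cT_10_12 j) else (cT_12_14 j)
def cT_7_14 (j : ℕ) : ℕ := bif Nat.blt j 10 then (cT_7_10 j) else (cT_10_14 j)
def cT_0_14 (j : ℕ) : ℕ := bif Nat.blt j 7 then (cT_0_7 j) else (cT_7_14 j)
def cT (j : ℕ) : ℕ := (cT_0_14 j)
noncomputable def cChunk (h : ℕ) : ℕ := Nat.rec (motive := fun _ => ℕ) (cT 0) (fun n _ => cT (Nat.succ n)) h
noncomputable def cF (i : ℕ) : ℕ := Nat.land (Nat.shiftRight (cChunk (Nat.shiftRight i 7)) (Nat.mul (Nat.land i 127) 24)) 16777215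
theorem cF_lt (i : ℕ) : cF i < 16777216 := land24_lt _
theorem cF_zero : cF 0 = 0 := by decide +kernel
def nDef : ℕ := 13449
def nEv : ℕ := 35969
def nW : ℕ := 226
def N : ℕ := 1782
def ys : List ℕ := [nat_lit 0, nat_lit 1, nat_lit 2, nat_lit 3, nat_lit 4, nat_lit 5, nat_lit 6]
end Cfsg.Agent.Lib.ToddCox.Suz1782
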